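import Cfsg.Agent.H55.SThree.Fusion

/-!
The exchanging table with two fused invariant subgroups, normalised: the subgroups of index `1` and
`2` are fused, the other classes of involutions are `kL` (conjugate to `s`) and `yL` (one further
class).
-/

set_option autoImplicit false

namespace H55.SThree

/-- The involution codes of the class of `s`. -/
def kL : List ℕ :=
  [96, 36, 66, 78, 132, 162, 174, 42, 54, 84, 138, 150, 180,
    97, 99, 101, 127, 135, 143, 153, 161, 163, 179, 181, 189]

/-- The involution codes of the other class. -/
def yL : List ℕ :=
  [30, 60, 90, 126, 156, 186, 1, 3, 5, 31, 39, 47, 57, 65, 67, 83, 85, 93]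

/-- The fusion of involutions in the case of two fused invariant subgroups. -/
structure TwoData {G : Type*} [Group G] (s : G) (Q : Subgroup G) (φ : ℕ → G) : Prop where
  frame : Frame s Q true false φ
  fused_one : Fused s true φ 1
  fused_two : Fused s true φ 2
  mem_kL : ∀ c ∈ allL, IsConj s (φ c) ↔ c ∈ kL
  conj_yL : ∀ c ∈ yL, IsConj (φ 30) (φ c)

end H55.SThree
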