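import Cfsg.Agent.H55.SThree.AutDef
import Cfsg.Agent.H55.SThree.TwoDef

/-! Elementary properties of the symmetries. -/

set_option autoImplicit false

namespace H55.SThree

theorem autC_range : ∀ o : Bool, ∀ m ∈ List.range 3,
    (∀ c ∈ allL, autC m o c ∈ allL ∧ (autC m o c ∈ qL ↔ c ∈ qL)) ∧ autC m o 96 = 96 ∧
      (allL.map (autC m o)).Nodup := by decide +kernel

theorem autC_classes : ∀ o : Bool, ∀ m ∈ List.range 3,
    (∀ c ∈ rL, kIx (autC m o c) = m ↔ kIx c = 0) ∧ autC m o 97 ∈ (if o then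
      [1, 3, 5, 31, 39, 47, 57, 65, 67, 83, 85, 93] else
      [97, 99, 101, 127, 135, 143, 153, 161, 163, 179, 181, 189]) := by decide +kernel

end H55.SThree
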