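import Cfsg.Agent.H55.SThree.AutDef

/-! The symmetries preserve the table (checked by evaluation). -/

set_option autoImplicit false

namespace H55.SThree

theorem autC_mul_true : ∀ m ∈ List.range 3, ∀ c ∈ allL, ∀ d ∈ allL,
    mulC true false (autC m true c) (autC m true d) = autC m true (mulC true false c d) := by
  decide +kernel

end H55.SThree
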