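import Cfsg.Agent.H55.SThree.ModelDef

/-! The abelian subgroups of order sixteen of the exchanging table, checked by evaluation. -/

set_option autoImplicit false

namespace H55.SThree

/-- The involution codes outside `Q` of the exchanging table. -/
def oL : List ℕ :=
  [97, 99, 101, 127, 135, 143, 153, 161, 163, 179, 181, 189,
    1, 3, 5, 31, 39, 47, 57, 65, 67, 83, 85, 93]

theorem oL_iff : ∀ c ∈ allL, (isI true false c && !isQ c) = decide (c ∈ oL) := by decide +kernel

theorem oL_allL : ∀ c ∈ oL, c ∈ allL := by decide +kernel

/-- One pair for each index centralises an outer involution. -/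
theorem oL_pairs : ∀ u ∈ oL, ∀ k ∈ List.range 3, ∃ c ∈ rL, kIx c = k ∧ isC true false u c ∧
    ∀ d ∈ rL, kIx d = k → isC true false u d → d = c ∨ d = mulC true false c 96 := by
  decide +kernel

/-- The centralizer of an outer involution is elementary. -/
theorem oL_elem : ∀ u ∈ oL, ∀ c ∈ allL, isC true false u c → mulC true false c c = 0 := by
  decide +kernel

/-- Products of commuting elements of different index have the third index. -/
theorem rL_prod : ∀ c ∈ rL, ∀ d ∈ rL, isC true false c d → kIx c ≠ kIx d →
    mulC true false c d ∈ rL ∧ kIx (mulC true false c d) + kIx c + kIx d = 3 := by decide +kernel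

/-- Conjugation preserves the index. -/
theorem kIx_conj : ∀ e : Bool, ∀ g ∈ allL, ∀ c ∈ rL,
    conjC true e g c ∈ rL ∧ kIx (conjC true e g c) = kIx c := by decide +kernel

end H55.SThree
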