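import Cfsg.Agent.H55.SThree.Fusion
import Cfsg.Agent.H55.SThree.ModelA

/-!
Lines of type `k`: pairs of conjugates of `s`, the second in the fused subgroup of index `k` of the
first; at least one invariant subgroup is not fused.
-/

set_option autoImplicit false

namespace H55.SThree

variable {G : Type*} [Group G]

/-- `p` lies in the fused subgroup of index `k` attached to `t`. -/
def Rel (s : G) (φ : ℕ → G) (k : ℕ) (t p : G) : Prop :=
  ∃ g : G, g * s * g⁻¹ = t ∧ ∃ c ∈ rL, kIx c = k ∧ g * φ c * g⁻¹ = p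

namespace Frame

variable {s : G} {Q : Subgroup G} {φ : ℕ → G} {k k' : ℕ} {t p q : G}

theorem rel_code (F : Frame s Q true false φ) {g g' : G} (h : g * s * g⁻¹ = g' * s * g'⁻¹)
    {c : ℕ} (hc : c ∈ rL) :
    ∃ d ∈ rL, kIx d = kIx c ∧ g * φ c * g⁻¹ = g' * φ d * g'⁻¹ := by
  have hl : g'⁻¹ * g ∈ Subgroup.centralizer ({s} : Set G) := mem_L_iff.2 (by
    show _ = _
    calc g'⁻¹ * g * s = g'⁻¹ * (g * s * g⁻¹) * g := by group
      _ = g'⁻¹ * (g' * s * g'⁻¹) * g := by rw [h]
      _ = s * (g'⁻¹ * g) := by group)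
  obtain ⟨l, hl, e⟩ := F.surj _ hl
  obtain ⟨h1, h2⟩ := kIx_conj false l hl c hc
  refine ⟨_, h1, h2, ?_⟩
  rw [← F.map_conj hl (rL_allL hc), e]; group

theorem rel_unique (F : Frame s Q true false φ) (h : Rel s φ k t p) (h' : Rel s φ k' t p) :
    k = k' := by
  obtain ⟨g, hg, c, hc, rfl, hp⟩ := h
  obtain ⟨g', hg', c', hc', rfl, hp'⟩ := h'
  obtain ⟨d, hd, hdk, e⟩ := F.rel_code (hg.trans hg'.symm) hc
  rw [hp, ← hp'] at e
  rw [← hdk, F.inj c' (rL_allL hc') d (rL_allL hd) (mul_left_cancel (mul_right_cancel e))]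

theorem rel_ne (F : Frame s Q true false φ) (h : Rel s φ k t p) : p ≠ 1 ∧ p ≠ t := by
  obtain ⟨g, hg, c, hc, -, hp⟩ := h
  obtain ⟨-, -, h0, h96, -⟩ := rL_spec c hc
  have e : φ c = g⁻¹ * p * g := by rw [← hp]; group
  refine ⟨fun h1 => h0 (F.inj c (rL_allL hc) 0 zero_mem_allL ?_),
    fun h1 => h96 (F.inj c (rL_allL hc) 96 s_mem_allL ?_)⟩
  · rw [e, h1, F.map_zero]; group
  · rw [e, h1, ← hg, F.map_s]; group

theorem rel_mul (F : Frame s Q true false φ) (h : Rel s φ k t p) : Rel s φ k t (t * p) := by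
  obtain ⟨g, hg, c, hc, hk, hp⟩ := h
  obtain ⟨-, h96, hk96⟩ := rL_sq true false c hc
  refine ⟨g, hg, _, h96, hk96.trans hk, ?_⟩
  rw [← F.mul c (rL_allL hc) 96 s_mem_allL, F.map_s,
    (F.s_comm (F.mem c (rL_allL hc))).eq, ← hg, ← hp]
  group

theorem rel_symm (F : Frame s Q true false φ) (hfus : ∀ k ∈ List.range 3, Fused s true φ k)
    (h : Rel s φ k t p) : Rel s φ k p t := by
  obtain ⟨g, hg, c, hc, rfl, hp⟩ := h
  obtain ⟨hk, -, D, hD, htr⟩ := hfus (kIx c) (kIx_lt c (rL_allL hc))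
  have hcA := rL_allL hc
  obtain ⟨h, hh, hhc⟩ := htr (φ c) ((hD _).2 ⟨c, (rL_spec c hc).2.2.2.2, rfl⟩)
    (fun e => (rL_spec c hc).2.2.1 (F.inj c hcA 0 zero_mem_allL (e.trans F.map_zero.symm)))
  have hs : h⁻¹ * s * h ∈ D := by
    have h0 : s ∈ D := (hD s).2 ⟨96, (eL_base hk).2, F.map_s⟩
    have := (Subgroup.mem_normalizer_iff.1 (inv_mem hh) s).1 h0
    rwa [inv_inv] at this
  obtain ⟨d, hd, hds⟩ := (hD _).1 hs
  refine ⟨g * h, ?_, d, ?_, ?_, ?_⟩
  · rw [← hp, ← hhc]; group
  all_goals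
    have h3 := (eL_spec _ hk d hd).2
    rcases h3 with rfl | rfl | ⟨h4, h5⟩
  · rw [F.map_zero] at hds
    exact absurd (by calc s = h * (h⁻¹ * s * h) * h⁻¹ := by group
                      _ = 1 := by rw [← hds]; group) F.s_ne
  · rw [F.map_s] at hds
    refine absurd ?_ (rL_spec c hc).2.2.2.1
    refine F.inj c hcA 96 s_mem_allL ?_
    calc φ c = h * s * h⁻¹ := hhc.symm
      _ = h * (h⁻¹ * s * h) * h⁻¹ := by rw [← hds]
      _ = φ 96 := by rw [F.map_s]; group
  · exact h4
  · rw [F.map_zero] at hds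
    exact absurd (by calc s = h * (h⁻¹ * s * h) * h⁻¹ := by group
                      _ = 1 := by rw [← hds]; group) F.s_ne
  · rw [F.map_s] at hds
    refine absurd ?_ (rL_spec c hc).2.2.2.1
    refine F.inj c hcA 96 s_mem_allL ?_
    calc φ c = h * s * h⁻¹ := hhc.symm
      _ = h * (h⁻¹ * s * h) * h⁻¹ := by rw [← hds]
      _ = φ 96 := by rw [F.map_s]; group
  · exact h5
  all_goals rw [hds, ← hg]; group

/-- The outer involutions are conjugate to `s` if every invariant subgroup is fused. -/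
theorem isConj_outer (F : Frame s Q true false φ) (hfus : ∀ k ∈ List.range 3, Fused s true φ k)
    {u : ℕ} (hu : u ∈ oL) : IsConj s (φ u) := by
  obtain ⟨hk, h32, D, hD, htr⟩ := hfus 0 (by decide)
  have huA := oL_allL u hu
  have hui : isI true false u = true ∧ isQ u = false := by
    have := (oL_iff u huA).trans (decide_eq_true hu)
    simpa using this
  obtain ⟨a, ha, ha96, ha0, hca, hact⟩ := exists_centre true false 0 hk h32 u huA hui.2 hui.1
  have haA := eL_allL hk ha
  obtain ⟨h, hh, hha⟩ := htr (φ a) ((hD _).2 ⟨a, ha, rfl⟩)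
    (fun h1 => ha0 (F.inj a haA 0 zero_mem_allL (h1.trans F.map_zero.symm)))
  have hvL : h⁻¹ * φ u * h ∈ Subgroup.centralizer ({s} : Set G) := mem_L_iff.2 (by
    show _ = _
    have hc' : φ u * (h * s * h⁻¹) = h * s * h⁻¹ * φ u := by
      rw [hha]; refine mul_inv_eq_iff_eq_mul.1 ?_; rw [F.map_conj huA haA, hca]
    calc h⁻¹ * φ u * h * s = h⁻¹ * (φ u * (h * s * h⁻¹)) * h := by group
      _ = h⁻¹ * (h * s * h⁻¹ * φ u) * h := by rw [hc']
      _ = s * (h⁻¹ * φ u * h) := by group)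
  obtain ⟨c, hc, hcv⟩ := F.surj _ hvL
  have hcQ : isQ c = true := by
    by_contra hne
    rw [Bool.not_eq_true] at hne
    obtain ⟨d, hd, hd1, hd2⟩ := mem_Q_of_translation true false 0 hk h32 c hc hne
    have hdA := eL_allL hk hd
    obtain ⟨d', hd', hdd⟩ := (hD _).1
      ((Subgroup.mem_normalizer_iff.1 hh _).1 ((hD _).2 ⟨d, hd, rfl⟩))
    have hd'A := eL_allL hk hd'
    have hmv : φ c * φ d * (φ c)⁻¹ = h⁻¹ * (φ u * φ d' * (φ u)⁻¹) * h := by
      rw [hcv, hdd]; group
    rw [F.map_conj hc hdA, F.map_conj huA hd'A] at hmv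
    rcases hact d' hd' with e1 | e1 <;> rw [e1] at hmv
    · rw [hdd, show h⁻¹ * (h * φ d * h⁻¹) * h = φ d by group] at hmv
      exact hd1 (F.inj _ (conjC_mem true false hc hdA) _ hdA hmv)
    · rw [← F.mul d' hd'A a haA, hdd, ← hha,
        show h⁻¹ * (h * φ d * h⁻¹ * (h * s * h⁻¹)) * h = φ d * s by group, ← F.map_s,
        F.mul d hdA 96 s_mem_allL] at hmv
      exact hd2 (F.inj _ (conjC_mem true false hc hdA) _
        (mem_allL.2 (mulC_lt true false d hdA 96 s_mem_allL)) hmv)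
  have hconj : IsConj (φ c) (φ u) := isConj_iff.2 ⟨h, by rw [hcv]; group⟩
  refine IsConj.trans ?_ hconj
  have hcc : mulC true false c c = 0 := F.inj _ (mem_allL.2 (mulC_lt true false c hc c hc)) _
    zero_mem_allL (by
      have : mulC true false u u = 0 := by simp [isI] at hui; exact hui.1.2
      rw [← F.mul c hc c hc, hcv,
        show h⁻¹ * φ u * h * (h⁻¹ * φ u * h) = h⁻¹ * (φ u * φ u) * h by group,
        F.mul u huA u huA, this, F.map_zero]
      group)
  by_cases h96 : c = 96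
  · rw [h96, F.map_s]
  by_cases h0 : c = 0
  · exfalso
    rw [h0, F.map_zero] at hcv
    have : φ u = φ 0 := by
      rw [F.map_zero]
      calc φ u = h * (h⁻¹ * φ u * h) * h⁻¹ := by group
        _ = 1 := by rw [← hcv]; group
    have h2 := hui.1
    rw [F.inj u huA 0 zero_mem_allL this] at h2
    simp [isI] at h2
  have hcr := rL_of_isR true false c (of_decide_eq_true ((isQ_iff c hc).symm.trans hcQ)) h0 h96 hcc
  obtain ⟨hk', -, D', hD', htr'⟩ := hfus (kIx c) (kIx_lt c hc)
  obtain ⟨h', -, e'⟩ := htr' (φ c) ((hD' _).2 ⟨c, (rL_spec c hcr).2.2.2.2, rfl⟩)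
    (fun e => h0 (F.inj c hc 0 zero_mem_allL (e.trans F.map_zero.symm)))
  exact isConj_iff.2 ⟨h', e'⟩

/-- Not all three invariant subgroups are fused. -/
theorem not_three_fused [Finite G] (F : Frame s Q true false φ)
    (hfus : ∀ k ∈ List.range 3, Fused s true φ k) : False := by
  classical
  have h97 : (97 : ℕ) ∈ oL := by simp [oL]
  have h97A := oL_allL 97 h97
  set A := Subgroup.centralizer ({s} : Set G) ⊓ Subgroup.centralizer ({φ 97} : Set G) with hA
  have hAe : ∀ x ∈ A, x * x = 1 := by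
    intro x hx
    obtain ⟨c, hc, rfl⟩ := F.surj x hx.1
    rw [F.mul c hc c hc, oL_elem 97 h97 c hc
      ((F.commute_iff h97A hc).1 (mem_L_iff.1 hx.2).symm), F.map_zero]
  have hAc : ∀ x ∈ A, ∀ y ∈ A, x * y = y * x := fun x hx y hy => by
    calc x * y = (x * y)⁻¹ := (inv_eq_of_mul_eq_one_right (hAe _ (mul_mem hx hy))).symm
      _ = y⁻¹ * x⁻¹ := mul_inv_rev x y
      _ = y * x := by
        rw [inv_eq_of_mul_eq_one_right (hAe x hx), inv_eq_of_mul_eq_one_right (hAe y hy)]
  have hAcard : Nat.card A = 16 := by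
    rw [hA, F.card_cent h97A, cnt_out true false 97 h97A (by decide) (by decide +kernel)]; rfl
  have hsA : s ∈ A := ⟨mem_L_iff.2 rfl, mem_L_iff.2 (F.s_comm (F.mem 97 h97A)).symm⟩
  -- every nontrivial element of `A` is conjugate to `s`
  have hcl : ∀ x ∈ A, x ≠ 1 → ∃ g : G, g * s * g⁻¹ = x := by
    intro x hx hx1
    obtain ⟨c, hc, rfl⟩ := F.surj x hx.1
    have hc0 : c ≠ 0 := fun e => hx1 (by rw [e, F.map_zero])
    have hcc : mulC true false c c = 0 := F.inj _ (mem_allL.2 (mulC_lt true false c hc c hc)) _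
      zero_mem_allL (by rw [← F.mul c hc c hc, hAe _ hx, F.map_zero])
    cases hq : isQ c with
    | true =>
      by_cases h96 : c = 96
      · exact ⟨1, by rw [h96, F.map_s]; group⟩
      have hcr := rL_of_isR true false c (of_decide_eq_true ((isQ_iff c hc).symm.trans hq)) hc0 h96 hcc
      obtain ⟨-, -, D, hD, htr⟩ := hfus (kIx c) (kIx_lt c hc)
      obtain ⟨h, -, e⟩ := htr (φ c) ((hD _).2 ⟨c, (rL_spec c hcr).2.2.2.2, rfl⟩) hx1
      exact ⟨h, e⟩
    | false =>
      exact isConj_iff.1 (F.isConj_outer hfus (of_decide_eq_true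
        ((oL_iff c hc).symm.trans (by simp [isI, hc0, hcc, hq]))))
  -- pairs at every point
  have hpull : ∀ t ∈ A, ∀ g : G, g * s * g⁻¹ = t → ∃ u ∈ oL, ∀ c ∈ allL,
      g * φ c * g⁻¹ ∈ A ↔ isC true false u c = true := by
    intro t ht g hg
    have hsub : ∀ x ∈ A, g⁻¹ * x * g ∈ Subgroup.centralizer ({s} : Set G) := fun x hx => by
      rw [mem_L_iff]
      show _ = _
      calc g⁻¹ * x * g * s = g⁻¹ * (x * (g * s * g⁻¹)) * g := by group
        _ = g⁻¹ * ((g * s * g⁻¹) * x) * g := by rw [hg, hAc x hx t ht]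
        _ = s * (g⁻¹ * x * g) := by group
    obtain ⟨x, hx, hxQ⟩ : ∃ x ∈ A, g⁻¹ * x * g ∉ Q := by
      by_contra hno
      push_neg at hno
      -- an elementary subgroup of `Q` has order at most eight
      obtain ⟨x, hx, hxt, hx1⟩ : ∃ x ∈ A, x ≠ t ∧ x ≠ 1 := by
        by_contra hno'
        push_neg at hno'
        have h1 : Nat.card A ≤ Nat.card ↥({1, t} : Finset G) :=
          Nat.card_le_card_of_injective (fun x => ⟨x.1, by
            by_cases h : x.1 = t
            · simp [h]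
            · simp [hno' x.1 x.2 h]⟩) (fun a b h => Subtype.ext (by simpa using h))
        replace h1 := h1.trans_eq (Nat.card_eq_fintype_card.trans (Fintype.card_coe _))
        have : ({1, t} : Finset G).card ≤ 2 := (Finset.card_insert_le _ _).trans (by simp)
        omega
      have hy0 : g⁻¹ * x * g ≠ 1 := fun e => hx1 (by
        calc x = g * (g⁻¹ * x * g) * g⁻¹ := by group
          _ = 1 := by rw [e]; group)
      have hys : g⁻¹ * x * g ≠ s := fun e => hxt (by
        calc x = g * (g⁻¹ * x * g) * g⁻¹ := by group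
          _ = t := by rw [e, hg])
      have hyy : ∀ a ∈ A, ∀ b ∈ A, g⁻¹ * a * g * (g⁻¹ * b * g) = g⁻¹ * (a * b) * g :=
        fun a _ b _ => by group
      obtain ⟨c, hc, hcy⟩ := F.code_of_invol (hno x hx)
        (by rw [hyy x hx x hx, hAe x hx]; group) hy0 hys
      let f : A → ↥(Q ⊓ Subgroup.centralizer ({φ c} : Set G)) := fun a =>
        ⟨g⁻¹ * a * g, hno a a.2, mem_L_iff.2 (by
          show _ = _; rw [hcy, hyy a a.2 x hx, hyy x hx a a.2, hAc a a.2 x hx])⟩
      have hbij : Function.Bijective f := Function.Injective.bijective_of_nat_card_le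
        (fun a b h => Subtype.ext (mul_left_cancel (mul_right_cancel (congrArg Subtype.val h))))
        (by rw [F.card_centQ (rL_allL hc), (cnt_R true false c hc).2, hAcard])
      obtain ⟨a, ha, hac, b, hb, hbc, hab⟩ := exists_noncomm true false c hc
      obtain ⟨a', ha'⟩ := hbij.2 ⟨φ a, (F.mem_Q a (qL_allL ha)).2 ha,
        mem_L_iff.2 ((F.commute_iff (rL_allL hc) (qL_allL ha)).2 hac).symm⟩
      obtain ⟨b', hb'⟩ := hbij.2 ⟨φ b, (F.mem_Q b (qL_allL hb)).2 hb,
        mem_L_iff.2 ((F.commute_iff (rL_allL hc) (qL_allL hb)).2 hbc).symm⟩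
      refine hab ((F.commute_iff (qL_allL ha) (qL_allL hb)).1 ?_)
      show _ = _
      rw [← show g⁻¹ * a' * g = φ a from congrArg Subtype.val ha',
        ← show g⁻¹ * b' * g = φ b from congrArg Subtype.val hb', hyy a' a'.2 b' b'.2,
        hyy b' b'.2 a' a'.2, hAc a' a'.2 b' b'.2]
    obtain ⟨u, hu, hue⟩ := F.surj _ (hsub x hx)
    have hu0 : u ≠ 0 := fun e => hxQ (by rw [← hue, e, F.map_zero]; exact one_mem Q)
    have huu : mulC true false u u = 0 := F.inj _ (mem_allL.2 (mulC_lt true false u hu u hu)) _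
      zero_mem_allL (by
        rw [← F.mul u hu u hu, hue, F.map_zero,
          show g⁻¹ * x * g * (g⁻¹ * x * g) = g⁻¹ * (x * x) * g by group, hAe x hx]
        group)
    have huq : isQ u = false := by
      by_contra hne
      rw [Bool.not_eq_false] at hne
      exact hxQ (hue ▸ (F.mem_Q u hu).2 (of_decide_eq_true ((isQ_iff u hu).symm.trans hne)))
    have huo : u ∈ oL := of_decide_eq_true ((oL_iff u hu).symm.trans (by simp [isI, hu0, huu, huq]))
    let f : A → ↥(Subgroup.centralizer ({s} : Set G) ⊓ Subgroup.centralizer ({φ u} : Set G)) :=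
      fun a => ⟨g⁻¹ * a * g, hsub a a.2, mem_L_iff.2 (by
        show _ = _
        rw [hue, show g⁻¹ * a * g * (g⁻¹ * x * g) = g⁻¹ * (a * x) * g by group,
          hAc a a.2 x hx]
        group)⟩
    have hbij : Function.Bijective f := Function.Injective.bijective_of_nat_card_le
      (fun a b h => Subtype.ext (mul_left_cancel (mul_right_cancel (congrArg Subtype.val h))))
      (by rw [F.card_cent hu, cnt_out true false u hu huq (by simp [isI, hu0, huu]), hAcard]; rfl)
    refine ⟨u, huo, fun c hc => ⟨fun hcA => ?_, fun hcu => ?_⟩⟩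
    · have h := (f ⟨_, hcA⟩).2.2
      simp only [f] at h
      rw [show g⁻¹ * (g * φ c * g⁻¹) * g = φ c by group] at h
      exact (F.commute_iff hu hc).1 (mem_L_iff.1 h).symm
    · obtain ⟨a, ha⟩ := hbij.2 ⟨φ c, F.mem c hc, mem_L_iff.2 ((F.commute_iff hu hc).2 hcu).symm⟩
      have : (a : G) = g * φ c * g⁻¹ := by
        rw [← show g⁻¹ * a * g = φ c from congrArg Subtype.val ha]; group
      exact this ▸ a.2
  have hex : ∀ t ∈ A, t ≠ 1 → ∀ k ∈ List.range 3, ∃ p ∈ A, Rel s φ k t p := by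
    intro t ht ht1 k hk
    obtain ⟨g, hg⟩ := hcl t ht ht1
    obtain ⟨u, hu, hiff⟩ := hpull t ht g hg
    obtain ⟨c, hc, hck, hcu, -⟩ := oL_pairs u hu k hk
    exact ⟨_, (hiff c (rL_allL hc)).2 hcu, g, hg, c, hc, hck, rfl⟩
  have huniq : ∀ t ∈ A, ∀ k p q, p ∈ A → q ∈ A → Rel s φ k t p → Rel s φ k t q →
      q = p ∨ q = t * p := by
    intro t ht k p q hp hq hRp hRq
    obtain ⟨g, hg, c, hc, hck, hcp⟩ := hRp
    obtain ⟨g', hg', c', hc', hck', hcq⟩ := hRq
    obtain ⟨d, hd, hdk, e⟩ := F.rel_code (hg'.trans hg.symm) hc'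
    obtain ⟨u, hu, hiff⟩ := hpull t ht g hg
    obtain ⟨c0, hc0, hc0k, -, honly⟩ := oL_pairs u hu k (hck ▸ kIx_lt c (rL_allL hc))
    have h1 := honly c hc hck ((hiff c (rL_allL hc)).1 (hcp.symm ▸ hp))
    have h2 := honly d hd (hdk.trans hck')
      ((hiff d (rL_allL hd)).1 (by rw [← e, hcq]; exact hq))
    have hss : φ (mulC true false c0 96) = φ c0 * s := by
      rw [← F.mul c0 (rL_allL hc0) 96 s_mem_allL, F.map_s]
    have hsc := (F.s_comm (F.mem c0 (rL_allL hc0))).eq
    have : φ d = φ c ∨ φ d = s * φ c := by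
      rcases h1 with rfl | rfl <;> rcases h2 with rfl | rfl
      · exact Or.inl rfl
      · exact Or.inr (by rw [hss, hsc])
      · refine Or.inr ?_
        rw [hss, hsc, ← mul_assoc, F.ss, one_mul]
      · exact Or.inl rfl
    rw [← hcq, e, ← hcp]
    rcases this with h | h <;> rw [h]
    · exact Or.inl rfl
    · exact Or.inr (by rw [← hg]; group)
  have hthird : ∀ t ∈ A, ∀ a b c p q, a ≠ b → a + b + c = 3 → p ∈ A → q ∈ A → Rel s φ a t p →
      Rel s φ b t q → Rel s φ c t (p * q) := by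
    intro t ht a b c p q hab habc hp hq hRp hRq
    obtain ⟨g, hg, cp, hcp, hka, hpe⟩ := hRp
    obtain ⟨g', hg', cq', hcq', hkb', hqe'⟩ := hRq
    obtain ⟨cq, hcq, hkb, e⟩ := F.rel_code (hg'.trans hg.symm) hcq'
    have hqe : g * φ cq * g⁻¹ = q := e.symm.trans hqe'
    have hkb2 : kIx cq = b := hkb.trans hkb'
    have hc : isC true false cp cq = true := by
      refine (F.commute_iff (rL_allL hcp) (rL_allL hcq)).1 ?_
      show _ = _
      have h2 := hAc p hp q hq
      rw [← hpe, ← hqe] at h2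
      have h3 := congrArg (fun x => g⁻¹ * x * g) h2
      simpa [mul_assoc] using h3
    obtain ⟨hm, hsum⟩ := rL_prod cp hcp cq hcq hc (by rw [hka, hkb2]; exact hab)
    refine ⟨g, hg, _, hm, by omega, ?_⟩
    rw [← F.mul cp (rL_allL hcp) cq (rL_allL hcq), ← hpe, ← hqe]; group
  have hsymm : ∀ {a : ℕ} {t p : G}, Rel s φ a t p → Rel s φ a p t := fun h => F.rel_symm hfus h
  -- the pairs at `s`
  have hsrel : ∀ x : G, x ∈ A → x ∈ Q → x ≠ 1 → x ≠ s → ∃ k ∈ List.range 3, Rel s φ k s x := by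
    intro x hx hxQ h1 h2
    obtain ⟨c, hc, rfl⟩ := F.code_of_invol hxQ (hAe x hx) h1 h2
    exact ⟨kIx c, kIx_lt c (rL_allL hc), 1, by group, c, hc, rfl, by group⟩
  have hrelQ : ∀ {k : ℕ} {x : G}, Rel s φ k s x → x ∈ Q := by
    rintro k x ⟨g, hg, c, hc, -, rfl⟩
    obtain ⟨d, hd, -, e⟩ := F.rel_code (g := g) (g' := 1) (by rw [hg]; group) hc
    rw [e, one_mul, inv_one, mul_one]
    exact (F.mem_Q d (rL_allL hd)).2 (rL_qL hd)
  have hu97 : φ 97 ∈ A :=
    ⟨F.mem 97 h97A, mem_L_iff.2 rfl⟩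
  have hcQ : φ 97 ∉ Q := fun h => absurd ((F.mem_Q 97 h97A).1 h) (by decide)
  have hmeet : ∀ z ∈ A, z ∉ Q → ∀ k ∈ List.range 3, ∃ f ∈ A, f ∈ Q ∧ Rel s φ k z f := by
    intro z hz hzQ k hk
    obtain ⟨p, hp, hR⟩ := hex z hz (fun e => hzQ (e ▸ one_mem Q)) k hk
    by_cases hpQ : p ∈ Q
    · exact ⟨p, hp, hpQ, hR⟩
    refine ⟨z * p, mul_mem hz hp, ?_, F.rel_mul hR⟩
    -- `A ∩ Q` has index two in `A`
    obtain ⟨c, hc, rfl⟩ := F.surj z hz.1
    obtain ⟨d, hd, rfl⟩ := F.surj p hp.1
    rw [F.mul c hc d hd, F.mem_Q _ (mem_allL.2 (mulC_lt true false c hc d hd))]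
    have key : ∀ c ∈ allL, isC true false 97 c → c ∉ qL → ∀ d ∈ allL, isC true false 97 d →
        d ∉ qL → mulC true false c d ∈ qL := by decide +kernel
    exact key c hc ((F.commute_iff h97A hc).1 (mem_L_iff.1 hz.2).symm)
      (fun h => hzQ ((F.mem_Q c hc).2 h)) d hd
      ((F.commute_iff h97A hd).1 (mem_L_iff.1 hp.2).symm)
      (fun h => hpQ ((F.mem_Q d hd).2 h))
  have e0 : ∀ k, k ∈ List.range 3 → ∀ x y : G, x ∈ A → Rel s φ k s x → Rel s φ k x y →
      y ∈ A → y ∈ Q := by
    intro k hk x y hx h1 h2 hy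
    rcases huniq x hx k s y hsA hy (hsymm h1) h2 with rfl | rfl
    · exact F.s_mem
    · exact mul_mem (hrelQ h1) F.s_mem
  -- `r` of index `0`, and its pair `p` of index `1`
  have hk0 : (0 : ℕ) ∈ List.range 3 := by decide
  have hk1 : (1 : ℕ) ∈ List.range 3 := by decide
  have hk2 : (2 : ℕ) ∈ List.range 3 := by decide
  obtain ⟨r, hr, hsr⟩ := hex s hsA F.s_ne 0 hk0
  have hr1 := (F.rel_ne hsr).1
  have hrQ := hrelQ hsr
  obtain ⟨p, hp, hrp⟩ := hex r hr hr1 1 hk1
  have hrs := hsymm hsr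
  have hpQ : p ∉ Q := by
    intro hpQ
    obtain ⟨hp1, hpr⟩ := F.rel_ne hrp
    by_cases hps : p = s
    · subst hps
      exact absurd (F.rel_unique hrp hrs) (by omega)
    obtain ⟨a, ha, hsp⟩ := hsrel p hp hpQ hp1 hps
    rcases (show a = 0 ∨ a = 1 ∨ a = 2 by have := List.mem_range.1 ha; omega) with rfl | rfl | rfl
    · rcases huniq s hsA 0 r p hr hp hsr hsp with e | e
      · exact hpr e
      · exact absurd (F.rel_unique hrp
          (show Rel s φ 0 r p by rw [e, hAc s hsA r hr]; exact F.rel_mul hrs)) (by omega)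
    · rcases huniq p hp 1 r s hr hsA (hsymm hrp) (hsymm hsp) with h | h
      · exact (F.rel_ne hsr).2 h.symm
      · have : p = r * s := by
          rw [h, ← mul_assoc, hAc r hr p hp, mul_assoc, hAe r hr, mul_one]
        exact absurd (F.rel_unique hrp (this ▸ F.rel_mul hrs)) (by omega)
    · have h := hsymm (hthird p hp 1 2 0 r s (by omega) (by omega) hr hsA (hsymm hrp) (hsymm hsp))
      rcases huniq (r * s) (mul_mem hr hsA) 0 r p hr hp (hsymm (F.rel_mul hrs)) h with e | e
      · exact hpr e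
      · exact hps (by rw [e, hAc r hr s hsA, mul_assoc, hAe r hr, mul_one])
  -- the pair of index `2` of `p` meets `Q` in an element `u` of index `1`
  obtain ⟨u, hu, huQ, hpu⟩ := hmeet p hp hpQ 2 hk2
  obtain ⟨hu1, -⟩ := F.rel_ne hpu
  have hus : u ≠ s := fun e => hpQ (hrelQ (e ▸ hsymm hpu))
  obtain ⟨a, ha, hsu⟩ := hsrel u hu huQ hu1 hus
  obtain rfl : a = 1 := by
    have := List.mem_range.1 ha
    by_contra hne
    rcases (show a = 0 ∨ a = 2 by omega) with rfl | rfl
    · rcases huniq s hsA 0 r u hr hu hsr hsu with rfl | rfl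
      · exact absurd (F.rel_unique (hsymm hrp) hpu) (by omega)
      · have h := hthird p hp 1 2 0 r (s * r) (by omega) (by omega) hr hu (hsymm hrp) hpu
        rw [hAc s hsA r hr, ← mul_assoc, hAe r hr, one_mul] at h
        exact hpQ (hrelQ (hsymm h))
    · exact hpQ (e0 2 hk2 u p hu hsu (hsymm hpu) hp)
  have hru : r * u ∈ A := mul_mem hr hu
  have hsru : Rel s φ 2 s (r * u) := hthird s hsA 0 1 2 r u (by omega) (by omega) hr hu hsr hsu
  have hpru : Rel s φ 0 p (r * u) :=
    hthird p hp 1 2 0 r u (by omega) (by omega) hr hu (hsymm hrp) hpu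
  have hsp : s * p ∈ A := mul_mem hsA hp
  have hr2 : Rel s φ 2 r (s * p) := hthird r hr 0 1 2 s p (by omega) (by omega) hsA hp hrs hrp
  have hru1 : Rel s φ 1 (r * u) (s * p) :=
    hthird (r * u) hru 2 0 1 s p (by omega) (by omega) hsA hp (hsymm hsru) (hsymm hpru)
  -- the element `z = u s p` lies on lines of index `1` and `2` through `r s`
  set z := u * (s * p) with hz
  have hzA : z ∈ A := mul_mem hu hsp
  have hzQ : z ∉ Q := fun h => hpQ (by
    have h2 := mul_mem (mul_mem F.s_mem (inv_mem huQ)) h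
    rwa [hz, mul_assoc s, inv_mul_cancel_left, ← mul_assoc, F.ss, one_mul] at h2)
  -- the elements of `A ∩ Q` and their indices
  have hFcases : ∀ a ∈ List.range 3, ∀ f ∈ A, Rel s φ a s f →
      (a = 0 ∧ (f = r ∨ f = s * r)) ∨ (a = 1 ∧ (f = u ∨ f = s * u)) ∨
        (a = 2 ∧ (f = r * u ∨ f = s * (r * u))) := by
    intro a ha f hf h
    rcases (show a = 0 ∨ a = 1 ∨ a = 2 by have := List.mem_range.1 ha; omega) with rfl | rfl | rfl
    · exact Or.inl ⟨rfl, huniq s hsA 0 r f hr hf hsr h⟩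
    · exact Or.inr (Or.inl ⟨rfl, huniq s hsA 1 u f hu hf hsu h⟩)
    · exact Or.inr (Or.inr ⟨rfl, huniq s hsA 2 (r * u) f hru hf hsru h⟩)
  have key : ∀ k ∈ List.range 3, k ≠ 0 → Rel s φ k z (s * r) := by
    intro k hk hk0'
    obtain ⟨f, hf, hfQ, hzf⟩ := hmeet z hzA hzQ k hk
    have hf1 := (F.rel_ne hzf).1
    have hfs : f ≠ s := fun e => hzQ (hrelQ (e ▸ hsymm hzf))
    obtain ⟨a, ha, hsf⟩ := hsrel f hf hfQ hf1 hfs
    have hak : a ≠ k := fun e => hzQ (e0 k hk f z hf (e ▸ hsf) (hsymm hzf) hzA)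
    have com := hAc
    rcases hFcases a ha f hf hsf with ⟨-, rfl | rfl⟩ | ⟨ha1, hf'⟩ | ⟨ha2, hf'⟩
    · exfalso
      rcases (show k = 1 ∨ k = 2 by have := List.mem_range.1 hk; omega) with rfl | rfl
      · rcases huniq f hr 1 p z hp hzA hrp (hsymm hzf) with e | e
        · exact hus (by
            have : u * s = 1 := by rw [← mul_right_inj (a := p), mul_one]; rw [hAc p hp (u * s) (mul_mem hu hsA), mul_assoc]; exact e
            rw [eq_inv_of_mul_eq_one_left this, inv_eq_of_mul_eq_one_right F.ss])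
        · have h3 : u * s = f := by
            have : u * s * p = f * p := by rw [mul_assoc]; exact e
            exact mul_right_cancel this
          rcases huniq s hsA 1 u f hu hf hsu (by
            have := F.rel_mul hsu; rwa [hAc s hsA u hu, h3] at this) with e1 | e1
          · exact absurd (F.rel_unique hsr (e1 ▸ hsu)) (by omega)
          · exact absurd (F.rel_unique hsr (e1 ▸ F.rel_mul hsu)) (by omega)
      · rcases huniq f hr 2 (s * p) z hsp hzA hr2 (hsymm hzf) with e | e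
        · exact hu1 (by simpa [hz] using e)
        · exact absurd (F.rel_unique hsr
            (show Rel s φ 1 s f from (mul_right_cancel (e : u * (s * p) = f * (s * p))) ▸ hsu)) (by omega)
    · exact hzf
    · -- index `1`
      exfalso
      obtain rfl : k = 2 := by have := List.mem_range.1 hk; omega
      rcases hf' with rfl | rfl
      · rcases huniq f hf 2 p z hp hzA (hsymm hpu) (hsymm hzf) with e | e
        · exact hus (by
            have : f * s = 1 := mul_right_cancel (b := p) (by rw [one_mul, mul_assoc]; exact e)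
            rw [eq_inv_of_mul_eq_one_left this, inv_eq_of_mul_eq_one_right F.ss])
        · exact F.s_ne (mul_right_cancel (b := p)
            ((mul_left_cancel (e : f * (s * p) = f * p)).trans (one_mul p).symm))
      · have e2 : s * u * z = p := by
          rw [hz, ← mul_assoc, mul_assoc s u u, hAe u hu, mul_one, ← mul_assoc, F.ss, one_mul]
        have h1 : Rel s φ 2 (s * u) p := e2 ▸ F.rel_mul (hsymm hzf)
        rcases huniq p hp 2 u (s * u) hu hf hpu (hsymm h1) with e | e
        · exact F.s_ne (by simpa using e)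
        · exact hpQ (by rw [← mul_right_cancel e]; exact F.s_mem)
    · -- index `2`
      exfalso
      obtain rfl : k = 1 := by have := List.mem_range.1 hk; omega
      rcases hf' with rfl | rfl
      · rcases huniq (r * u) hru 1 (s * p) z hsp hzA hru1 (hsymm hzf) with e | e
        · exact hu1 (by simpa [hz] using e)
        · exact hr1 (by
            have h2 := mul_right_cancel (e : u * (s * p) = r * u * (s * p))
            exact mul_right_cancel (b := u) (h2.symm.trans (one_mul u).symm))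
      · have e2 : s * (r * u) * z = r * p := by
          rw [hz, mul_assoc s, mul_assoc r u, ← mul_assoc u u, hAe u hu, one_mul, ← mul_assoc r,
            hAc r hr s hsA, ← mul_assoc s, ← mul_assoc s, F.ss, one_mul]
        have h1 : Rel s φ 1 (s * (r * u)) (r * p) := e2 ▸ F.rel_mul (hsymm hzf)
        have h2 : Rel s φ 1 (r * p) r := hsymm (F.rel_mul hrp)
        rcases huniq (r * p) (mul_mem hr hp) 1 r (s * (r * u)) hr hf h2 (hsymm h1) with e | e
        · refine hus ?_
          have h4 : r * (s * u) = r * 1 := by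
            rw [mul_one, ← mul_assoc, hAc r hr s hsA, mul_assoc]; exact e
          rw [← inv_eq_of_mul_eq_one_right (mul_left_cancel h4), inv_eq_of_mul_eq_one_right F.ss]
        · refine hpQ ?_
          have h4 : s * (r * u) = p := by
            rw [e, hAc r hr p hp, mul_assoc, hAe r hr, mul_one]
          rw [← h4]; exact mul_mem F.s_mem (mul_mem hrQ huQ)
  exact absurd (F.rel_unique (key 1 hk1 (by omega)) (key 2 hk2 (by omega))) (by omega)

end Frame

end H55.SThree
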