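import Cfsg.Agent.H55.SThree.One
import Cfsg.Agent.H55.SThree.Lines
import Cfsg.Agent.H55.SThree.TwoDef
import Cfsg.Agent.H55.SThree.AutFacts
import Cfsg.Agent.H55.SThree.AutHomA
import Cfsg.Agent.H55.SThree.AutHomB

/-!
The exchanging table: one fused invariant subgroup is normal, three do not occur, and two can be
normalised to `TwoData`.
-/

set_option autoImplicit false

namespace H55.SThree

/-- The first class of outer involution codes. -/
def oA : List ℕ := [97, 99, 101, 127, 135, 143, 153, 161, 163, 179, 181, 189]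

/-- The second class of outer involution codes. -/
def oB : List ℕ := [1, 3, 5, 31, 39, 47, 57, 65, 67, 83, 85, 93]

theorem oL_split : ∀ c ∈ oL, c ∈ oA ∨ c ∈ oB := by decide +kernel

theorem oA_trans : ∀ c ∈ oA, ∃ g ∈ allL, conjC true false g 97 = c := by decide +kernel

theorem oB_trans : ∀ c ∈ oB, ∃ g ∈ allL, conjC true false g 1 = c := by decide +kernel

theorem kL_cases : ∀ c ∈ allL, isI true false c →
    (c ∈ kL ↔ c = 96 ∨ (c ∈ rL ∧ kIx c ≠ 0) ∨ c ∈ oA) := by decide +kernel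

theorem isI_cases : ∀ c ∈ allL, isI true false c → c = 96 ∨ c ∈ rL ∨ c ∈ oL := by decide +kernel

theorem kL_isI : ∀ c ∈ kL, c ∈ allL ∧ isI true false c := by decide +kernel

theorem yL_cases : ∀ c ∈ yL, (c ∈ rL ∧ kIx c = 0) ∨ c ∈ oB := by decide +kernel

theorem rL_of_index : ∀ k ∈ List.range 3, ∃ c ∈ rL, kIx c = k := by decide +kernel

theorem mem_o_base : (97 : ℕ) ∈ oA ∧ (1 : ℕ) ∈ oB ∧ (30 : ℕ) ∈ rL ∧ kIx 30 = 0 := by decide

theorem autC_mul : ∀ (o : Bool), ∀ m ∈ List.range 3, ∀ c ∈ allL, ∀ d ∈ allL,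
    mulC true false (autC m o c) (autC m o d) = autC m o (mulC true false c d) := fun o => by
  cases o
  · exact autC_mul_false
  · exact autC_mul_true

variable {G : Type*} [Group G]

namespace Frame

variable {s : G} {Q : Subgroup G} {φ : ℕ → G}

/-- Two indices are in `U` precisely when they are fused. -/
theorem fused_of_conj [Finite G] (F : Frame s Q true false φ) {a : ℕ} (ha : a ∈ rL)
    (h : IsConj s (φ a)) : Fused s true φ (kIx a) := by
  obtain ⟨g, hg⟩ := isConj_iff.1 h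
  have hs : φ a ≠ s := fun e => (rL_spec a ha).2.2.2.1
    (F.inj a (rL_allL ha) 96 s_mem_allL (e.trans F.map_s.symm))
  have hQ : g * s * g⁻¹ ∈ Q := hg.symm ▸ (F.mem_Q a (rL_allL ha)).2 (rL_qL ha)
  rcases F.fused_or g hQ (hg.symm ▸ hs) with ⟨b, hb, hbe, hf⟩ | ⟨h, -⟩
  · rwa [F.inj a (rL_allL ha) b (rL_allL hb) (hg.symm.trans hbe.symm)]
  · exact absurd h (by decide)

/-- A fused subgroup makes its nontrivial elements conjugate to `s`. -/
theorem conj_of_fused (F : Frame s Q true false φ) {k c : ℕ} (hf : Fused s true φ k) (hc : c ∈ rL)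
    (hk : kIx c = k) : IsConj s (φ c) := by
  obtain ⟨-, -, D, hD, htr⟩ := hf
  obtain ⟨h, -, e⟩ := htr (φ c) ((hD _).2 ⟨c, hk ▸ (rL_spec c hc).2.2.2.2, rfl⟩)
    (fun e => (rL_spec c hc).2.2.1 (F.inj c (rL_allL hc) 0 zero_mem_allL (e.trans F.map_zero.symm)))
  exact isConj_iff.2 ⟨h, e⟩

/-- An element of another index is conjugate to an outer involution. -/
theorem inner_conj (F : Frame s Q true false φ) {k c : ℕ} (hf : Fused s true φ k) (hc : c ∈ rL)
    (hk : kIx c ≠ k) : ∃ u ∈ oL, IsConj (φ c) (φ u) := by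
  obtain ⟨hk3, h32, D, hD, htr⟩ := hf
  obtain ⟨⟨f, hfE, hfc⟩, d, hd, hd0, hd96, hdc⟩ := centre_of_R true false k hk3 h32 c hc hk
  have hdA := eL_allL hk3 hd
  have hfA := eL_allL hk3 hfE
  obtain ⟨h, hh, hhs⟩ := htr (φ d) ((hD _).2 ⟨d, hd, rfl⟩)
    (fun e => hd0 (F.inj d hdA 0 zero_mem_allL (e.trans F.map_zero.symm)))
  set v := h⁻¹ * φ c * h with hv
  have hvL : v ∈ Subgroup.centralizer ({s} : Set G) := mem_L_iff.2 (by
    show _ = _
    have hc' : φ c * (h * s * h⁻¹) = h * s * h⁻¹ * φ c := by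
      rw [hhs]; exact (F.commute_iff (rL_allL hc) hdA).2 hdc
    calc v * s = h⁻¹ * (φ c * (h * s * h⁻¹)) * h := by rw [hv]; group
      _ = h⁻¹ * (h * s * h⁻¹ * φ c) * h := by rw [hc']
      _ = s * v := by rw [hv]; group)
  obtain ⟨u, hu, huv⟩ := F.surj v hvL
  have hu0 : u ≠ 0 := fun e => (rL_spec c hc).2.2.1 (F.inj c (rL_allL hc) 0 zero_mem_allL (by
    rw [F.map_zero]
    calc φ c = h * v * h⁻¹ := by rw [hv]; group
      _ = 1 := by rw [← huv, e, F.map_zero]; group))
  have huu : mulC true false u u = 0 := F.inj _ (mem_allL.2 (mulC_lt true false u hu u hu)) _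
    zero_mem_allL (by
      rw [← F.mul u hu u hu, huv, hv,
        show h⁻¹ * φ c * h * (h⁻¹ * φ c * h) = h⁻¹ * (φ c * φ c) * h by group,
        F.mul c (rL_allL hc) c (rL_allL hc), (rL_sq true false c hc).1, F.map_zero]
      group)
  refine ⟨u, of_decide_eq_true ((oL_iff u hu).symm.trans ?_), isConj_iff.2 ⟨h⁻¹, by
    rw [inv_inv, huv]⟩⟩
  simp only [isI, huu, bne_iff_ne, ne_eq, hu0, not_false_iff, beq_self_eq_true, Bool.and_true,
    Bool.and_eq_true, Bool.not_eq_true', true_and]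
  by_contra hq
  rw [Bool.not_eq_false] at hq
  have hvQ : v ∈ Q := huv ▸ (F.mem_Q u hu).2 (of_decide_eq_true ((isQ_iff u hu).symm.trans hq))
  set y := h⁻¹ * φ f * h with hy
  have hyD : y ∈ D := by
    refine (Subgroup.mem_normalizer_iff.1 hh y).2 ?_
    rw [hy, show h * (h⁻¹ * φ f * h) * h⁻¹ = φ f by group]
    exact (hD _).2 ⟨f, hfE, rfl⟩
  obtain ⟨cy, hcy, hcy'⟩ := (hD y).1 hyD
  have hyQ : y ∈ Q := hcy' ▸ (F.mem_Q cy (eL_allL hk3 hcy)).2 (eL_qL hk3 hcy)
  have hcf : φ c * φ f * (φ c)⁻¹ = φ f * s := by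
    rw [F.map_conj (rL_allL hc) hfA, hfc, ← F.mul f hfA 96 s_mem_allL, F.map_s]
  have hmove : v * y = y * v * (h⁻¹ * s * h) := by
    have h2 : φ c * φ f = φ f * s * φ c := by rw [← hcf, inv_mul_cancel_right]
    have h3 : s * φ c = φ c * s := (F.s_comm (F.mem c (rL_allL hc))).symm.eq
    rw [hv, hy, show h⁻¹ * φ c * h * (h⁻¹ * φ f * h) = h⁻¹ * (φ c * φ f) * h by group, h2,
      mul_assoc (φ f), h3]
    group
  rcases F.comm_cases hvQ hyQ with h2 | h2 <;> rw [hmove] at h2
  · refine F.s_ne ?_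
    have h3 : h⁻¹ * s * h = 1 := by simpa using h2
    calc s = h * (h⁻¹ * s * h) * h⁻¹ := by group
      _ = 1 := by rw [h3]; group
  · refine hd96 (F.inj d hdA 96 s_mem_allL ?_)
    have h3 : h⁻¹ * s * h = s := mul_left_cancel h2
    calc φ d = h * s * h⁻¹ := hhs.symm
      _ = h * (h⁻¹ * s * h) * h⁻¹ := by rw [h3]
      _ = φ 96 := by rw [F.map_s]; group

/-- The classes in a half of the outer involutions. -/
theorem conj_half (F : Frame s Q true false φ) {u : ℕ} :
    (u ∈ oA → IsConj (φ 97) (φ u)) ∧ (u ∈ oB → IsConj (φ 1) (φ u)) := by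
  refine ⟨fun hu => ?_, fun hu => ?_⟩
  · obtain ⟨g, hg, e⟩ := oA_trans u hu
    exact isConj_iff.2 ⟨φ g, by rw [F.map_conj hg (mem_allL.2 (by omega)), e]⟩
  · obtain ⟨g, hg, e⟩ := oB_trans u hu
    exact isConj_iff.2 ⟨φ g, by rw [F.map_conj hg (mem_allL.2 (by omega)), e]⟩

/-- Reparametrisation by a symmetry of the table. -/
theorem relabel (F : Frame s Q true false φ) {m : ℕ} (hm : m ∈ List.range 3) (o : Bool) :
    Frame s Q true false (fun c => φ (autC m o c)) := by
  obtain ⟨hr, h96, hnd⟩ := autC_range o m hm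
  let f : Fin 192 → Fin 192 := fun c =>
    ⟨autC m o c, mem_allL.1 (hr c (mem_allL.2 c.2)).1⟩
  have hf : Function.Injective f := fun c d h => Fin.ext
    (List.inj_on_of_nodup_map hnd (mem_allL.2 c.2) (mem_allL.2 d.2) (congrArg Fin.val h))
  have hs := Finite.surjective_of_injective hf
  refine ⟨fun c hc d hd h => List.inj_on_of_nodup_map hnd hc hd
    (F.inj _ (hr c hc).1 _ (hr d hd).1 h), fun c hc => F.mem _ (hr c hc).1, fun g hg => ?_,
    fun c hc d hd => ?_, by simp only [h96, F.map_s], fun c hc => ?_, F.Q_le⟩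
  · obtain ⟨c, hc, e⟩ := F.surj g hg
    obtain ⟨d, hd⟩ := hs ⟨c, mem_allL.1 hc⟩
    exact ⟨d, mem_allL.2 d.2, by rw [show autC m o d = c from congrArg Fin.val hd]; exact e⟩
  · rw [F.mul _ (hr c hc).1 _ (hr d hd).1, autC_mul o m hm c hc d hd]
  · rw [F.mem_Q _ (hr c hc).1, (hr c hc).2]

/-- The exchanging table: a normal subgroup of order eight, or two fused invariant subgroups. -/
theorem swap_case [Finite G] (F : Frame s Q true false φ) (g : G) (hgQ : g * s * g⁻¹ ∈ Q)
    (hgs : g * s * g⁻¹ ≠ s) :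
    (∃ (N : Subgroup G) (_ : N.Normal), IsMulCommutative N ∧ (∀ n ∈ N, n ^ 2 = 1) ∧ Nat.card N = 8 ∧
      Nonempty (G ⧸ N ≃* Matrix.ProjectiveSpecialLinearGroup (Fin 3) (ZMod 2))) ∨
    ∃ φ' : ℕ → G, TwoData s Q φ' := by
  classical
  obtain ⟨a, ha, hag, -⟩ := (F.fused_or g hgQ hgs).resolve_right (fun h => by simp at h)
  have haU : IsConj s (φ a) := isConj_iff.2 ⟨g, hag.symm⟩
  have hi := F.fused_of_conj ha haU
  by_cases huniq : ∀ b ∈ rL, IsConj s (φ b) → kIx b = kIx a
  · exact Or.inl (F.single_case rfl hi huniq)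
  push_neg at huniq
  obtain ⟨b, hb, hbU, hne⟩ := huniq
  right
  have hj := F.fused_of_conj hb hbU
  have hka := List.mem_range.1 (kIx_lt a (rL_allL ha))
  have hkb := List.mem_range.1 (kIx_lt b (rL_allL hb))
  set i := kIx a
  set j := kIx b
  have hm : 3 - i - j ∈ List.range 3 := List.mem_range.2 (by omega)
  set m := 3 - i - j with hmdef
  have hmU : ∀ c ∈ rL, kIx c = m → ¬ IsConj s (φ c) := by
    intro c hc hcm hcU
    have hmf := F.fused_of_conj hc hcU
    refine F.not_three_fused fun k hk => ?_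
    have hk3 := List.mem_range.1 hk
    rcases (show k = i ∨ k = j ∨ k = m by omega) with rfl | rfl | rfl
    · exact hi
    · exact hj
    · exact hcm ▸ hmf
  obtain ⟨o, ho⟩ : ∃ o : Bool, IsConj s (φ (autC m o 97)) := by
    by_cases h97 : IsConj s (φ 97)
    · refine ⟨false, ?_⟩
      have h := (autC_classes false m hm).2
      exact h97.trans ((F.conj_half).1 (by simpa [oA] using h))
    · refine ⟨true, ?_⟩
      obtain ⟨u, hu, hbu⟩ := F.inner_conj hi hb hne
      have huK := hbU.trans hbu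
      rcases oL_split u hu with hA | hB
      · exact absurd (huK.trans ((F.conj_half).1 hA).symm) h97
      · have h := (autC_classes true m hm).2
        exact (huK.trans ((F.conj_half).2 hB).symm).trans ((F.conj_half).2 (by simpa [oB] using h))
  set ψ := fun c => φ (autC m o c) with hψ
  have F' : Frame s Q true false ψ := F.relabel hm o
  obtain ⟨hr, -, -⟩ := autC_range o m hm
  -- the map preserves noncentral involutions of `Q`
  have hR : ∀ c ∈ rL, autC m o c ∈ rL := by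
    intro c hc
    have hcA := rL_allL hc
    have hA := (hr c hcA).1
    obtain ⟨d, hd, e⟩ := F.code_of_invol (r := ψ c) ((F'.mem_Q c hcA).2 (rL_qL hc))
      (by rw [F'.mul c hcA c hcA, (rL_sq true false c hc).1, F'.map_zero])
      (fun e => (rL_spec c hc).2.2.1 (F'.inj c hcA 0 zero_mem_allL (e.trans F'.map_zero.symm)))
      (fun e => (rL_spec c hc).2.2.2.1 (F'.inj c hcA 96 s_mem_allL (e.trans F'.map_s.symm)))
    rwa [← F.inj d (rL_allL hd) _ hA e]
  have hU : ∀ c ∈ rL, IsConj s (ψ c) ↔ kIx c ≠ 0 := by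
    intro c hc
    have h3 := List.mem_range.1 (kIx_lt _ (rL_allL (hR c hc)))
    refine ⟨fun h h0 => hmU _ (hR c hc) (((autC_classes o m hm).1 c hc).2 h0) h, fun h0 => ?_⟩
    have hne : kIx (autC m o c) ≠ m := fun e => h0 (((autC_classes o m hm).1 c hc).1 e)
    rcases (show kIx (autC m o c) = i ∨ kIx (autC m o c) = j by omega) with e | e
    · exact F.conj_of_fused hi (hR c hc) e
    · exact F.conj_of_fused hj (hR c hc) e
  obtain ⟨h97A, h1B, h30, h30k⟩ := mem_o_base
  obtain ⟨c1, hc1, hc1k⟩ := rL_of_index 1 (by decide)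
  obtain ⟨c2, hc2, hc2k⟩ := rL_of_index 2 (by decide)
  have f1 : Fused s true ψ 1 := hc1k ▸ F'.fused_of_conj hc1 ((hU c1 hc1).2 (by omega))
  have f2 : Fused s true ψ 2 := hc2k ▸ F'.fused_of_conj hc2 ((hU c2 hc2).2 (by omega))
  obtain ⟨u, hu, h30u⟩ := F'.inner_conj f1 h30 (by omega)
  have hn30 : ¬ IsConj s (ψ 30) := fun h => (hU 30 h30).1 h h30k
  have huB : u ∈ oB := (oL_split u hu).resolve_left fun hA =>
    hn30 ((ho.trans (F'.conj_half.1 hA)).trans h30u.symm)
  have hyB : ∀ c ∈ oB, IsConj (ψ 30) (ψ c) := fun c hc =>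
    (h30u.trans (F'.conj_half.2 huB).symm).trans (F'.conj_half.2 hc)
  refine ⟨ψ, F', f1, f2, fun c hc => ?_, fun c hc => ?_⟩
  · refine ⟨fun h => ?_, fun h => ?_⟩
    · have ho2 : orderOf (ψ c) = 2 :=
        H65.two_of_isConj (H65.two_iff.2 ⟨F.ss, F.s_ne⟩) h
      have hc0 : c ≠ 0 := fun e => by rw [e, F'.map_zero, orderOf_one] at ho2; omega
      have hcc : mulC true false c c = 0 := F'.inj _ (mem_allL.2 (mulC_lt true false c hc c hc)) _
        zero_mem_allL (by rw [← F'.mul c hc c hc, H65.mul_self_of_two ho2, F'.map_zero])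
      have hI : isI true false c = true := by simp [isI, hc0, hcc]
      rw [kL_cases c hc hI]
      rcases isI_cases c hc hI with e | e | e
      · exact Or.inl e
      · exact Or.inr (Or.inl ⟨e, (hU c e).1 h⟩)
      · refine Or.inr (Or.inr ((oL_split c e).resolve_right fun hB => hn30 (h.trans (hyB c hB).symm)))
    · obtain ⟨-, hI⟩ := kL_isI c h
      rcases (kL_cases c hc hI).1 h with rfl | ⟨e, hk⟩ | e
      · rw [F'.map_s]
      · exact (hU c e).2 hk
      · exact ho.trans (F'.conj_half.1 e)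
  · rcases yL_cases c hc with ⟨e, hk⟩ | e
    · obtain ⟨g, hg, eg⟩ := inE_trans true false 30 h30 rfl c
        (by rw [h30k, ← hk]; exact (rL_spec c e).2.2.2.2) (rL_spec c e).2.2.1 (rL_spec c e).2.2.2.1
      exact isConj_iff.2 ⟨ψ g, by rw [F'.map_conj hg (rL_allL h30), eg]⟩
    · exact hyB c e

end Frame

end H55.SThree
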