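import Cfsg.Agent.H55.SThree.Table
import Cfsg.Prelude.Def_Transfer
import Cfsg.Prelude.Def_Solvable
import Cfsg.Prelude.Def_CaseTheorems
import Cfsg.Agent.H76.Basic
import Mathlib.GroupTheory.Sylow
import Mathlib.GroupTheory.Perm.Sign
import Mathlib.Data.Fintype.Perm

/-!
The coordinates from the hypotheses of the centralizer characterisation.
-/

set_option autoImplicit false

open scoped Pointwise

namespace H55.SThree

variable {G : Type*} [Group G]

theorem perm_three_inv : ∀ a b : Equiv.Perm (Fin 3), Equiv.Perm.sign a = 1 →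
    Equiv.Perm.sign b = -1 → b * a * b⁻¹ = a⁻¹ ∧ b * b = 1 := by
  decide +kernel

theorem perm_three_gen : ∀ a b c : Equiv.Perm (Fin 3), Equiv.Perm.sign a = 1 →
    Equiv.Perm.sign b = -1 → a = 1 ∨ c = 1 ∨ c = a ∨ c = a * a ∨ c = b ∨ c = a * b ∨
      c = a * a * b := by
  decide +kernel

theorem perm_three_facts {a b : Equiv.Perm (Fin 3)} (ha : Equiv.Perm.sign a = 1)
    (hb : Equiv.Perm.sign b = -1) : b * a * b⁻¹ = a⁻¹ ∧ b * b = 1 ∧
      (a ≠ 1 → ∀ c : Equiv.Perm (Fin 3), ∃ n : Fin 3, ∃ m : Fin 2,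
        c = a ^ (n : ℕ) * b ^ (m : ℕ)) := by
  refine ⟨(perm_three_inv a b ha hb).1, (perm_three_inv a b ha hb).2, fun h c => ?_⟩
  rcases perm_three_gen a b c ha hb with e | e | e | e | e | e | e
  · exact absurd e h
  · exact ⟨0, 0, by simp [e]⟩
  · exact ⟨1, 0, by simp [e]⟩
  · exact ⟨2, 0, by simp [e, pow_two]⟩
  · exact ⟨0, 1, by simp [e]⟩
  · exact ⟨1, 1, by simp [e]⟩
  · exact ⟨2, 1, by simp [e, pow_two]⟩

theorem perm_three_order : ∀ a : Equiv.Perm (Fin 3), a * a * a = 1 → Equiv.Perm.sign a = 1 := by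
  decide +kernel

theorem perm_three_odd : ∃ b : Equiv.Perm (Fin 3), Equiv.Perm.sign b = -1 := by decide +kernel

theorem exists_frame_of_hyp [Finite G] (s : G) (hs : orderOf s = 2) (L : Subgroup G)
    (hL : L = Subgroup.centralizer ({s} : Set G))
    (Q : Subgroup G) (hQ : Q = (Cfsg.pCore 2 L).map L.subtype)
    (hQex : Cfsg.IsExtraspecial 2 Q) (hQcard : Nat.card Q = 32)
    (e : L ⧸ Cfsg.pCore 2 L ≃* Equiv.Perm (Fin 3))
    (X : Sylow 3 L) (hCQX : Q ⊓ Subgroup.centralizer
      (((X : Subgroup L).map L.subtype : Subgroup G) : Set G) = Subgroup.zpowers s) :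
    ∃ sw e' φ, Frame s Q sw e' φ := by
  classical
  have : Fact (Nat.Prime 3) := ⟨Nat.prime_three⟩
  have : Fact (Nat.Prime 2) := ⟨Nat.prime_two⟩
  set P := Cfsg.pCore 2 L with hP
  have : P.Normal := inferInstance
  let π : L →* Equiv.Perm (Fin 3) := e.toMonoidHom.comp (QuotientGroup.mk' P)
  have hπ : ∀ g : L, π g = 1 ↔ g ∈ P := fun g => by
    simp only [π, MonoidHom.comp_apply, MulEquiv.coe_toMonoidHom, map_eq_one_iff _ e.injective,
      QuotientGroup.mk'_apply, QuotientGroup.eq_one_iff]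
  have hπs : Function.Surjective π := e.surjective.comp (QuotientGroup.mk'_surjective P)
  have hcardP : Nat.card P = 32 := by
    rw [← hQcard, hQ]; exact (Nat.card_congr (P.equivMapOfInjective L.subtype L.subtype_injective).toEquiv)
  have hcardL : Nat.card L = 192 := by
    rw [Subgroup.card_eq_card_quotient_mul_card_subgroup P, Nat.card_congr e.toEquiv, hcardP,
      Nat.card_perm, Nat.card_fin]
    rfl
  have hQmem : ∀ g : L, (g : G) ∈ Q ↔ g ∈ P := fun g => by
    rw [hQ]; exact ⟨fun ⟨g', hg', e'⟩ => L.subtype_injective e' ▸ hg', fun hg => ⟨g, hg, rfl⟩⟩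
  have hQle : Q ≤ L := by rw [hQ]; exact Subgroup.map_subtype_le _
  have hss : s * s = 1 := by rw [← pow_two, ← hs, pow_orderOf_eq_one]
  have hs1 : s ≠ 1 := fun h => by rw [h, orderOf_one] at hs; omega
  have hsQ : s ∈ Q := (Subgroup.zpowers_le.1 (hCQX ▸ inf_le_left : Subgroup.zpowers s ≤ Q))
  have hcs : ∀ g ∈ L, s * g = g * s := fun g hg =>
    (Subgroup.mem_centralizer_singleton_iff.1 (hL ▸ hg)).symm
  -- the Sylow subgroup
  have hXcard : Nat.card (X : Subgroup L) = 3 := by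
    rw [X.card_eq_multiplicity, hcardL]
    have : (192 : ℕ).factorization 3 = 1 := by
      rw [show (192 : ℕ) = 3 * 64 from rfl, Nat.factorization_mul (by omega) (by omega)]
      simp [Nat.Prime.factorization_self Nat.prime_three,
        Nat.factorization_eq_zero_of_not_dvd (show ¬ 3 ∣ 64 by omega)]
    rw [this, pow_one]
  obtain ⟨x, hxX, hxgen⟩ : ∃ x ∈ (X : Subgroup L), Subgroup.zpowers x = (X : Subgroup L) := by
    have : IsCyclic (X : Subgroup L) := isCyclic_of_prime_card hXcard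
    obtain ⟨⟨x, hx⟩, hgen⟩ := IsCyclic.exists_generator (α := (X : Subgroup L))
    refine ⟨x, hx, le_antisymm (Subgroup.zpowers_le.2 hx) fun y hy => ?_⟩
    obtain ⟨k, hk⟩ := Subgroup.mem_zpowers_iff.1 (hgen ⟨y, hy⟩)
    exact Subgroup.mem_zpowers_iff.2 ⟨k, by simpa using congrArg Subtype.val hk⟩
  have hx3 : x * x * x = 1 := by
    have h3 : x ^ 3 = 1 := by
      have := congrArg Subtype.val (pow_card_eq_one' (x := (⟨x, hxX⟩ : (X : Subgroup L))))
      simpa [hXcard] using this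
    rw [← h3, pow_succ, pow_two]
  have hx1 : π x ≠ 1 := fun h => by
    have hxP := (hπ x).1 h
    have hd : Nat.card (X : Subgroup L) ∣ Nat.card P :=
      Subgroup.card_dvd_of_le (hxgen ▸ Subgroup.zpowers_le.2 hxP)
    rw [hXcard, hcardP] at hd
    omega
  have hxsgn : Equiv.Perm.sign (π x) = 1 := perm_three_order _ (by rw [← map_mul, ← map_mul, hx3, map_one])
  -- an element inverting `x`
  obtain ⟨b0, hb0⟩ := perm_three_odd
  obtain ⟨y, rfl⟩ := hπs b0
  let σ : L →* ℤˣ := Equiv.Perm.sign.comp π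
  set M := σ.ker
  have hXM : (X : Subgroup L) ≤ M := hxgen ▸ Subgroup.zpowers_le.2 hxsgn
  have hXM' : ((y • X : Sylow 3 L) : Subgroup L) ≤ M := fun g hg => by
    obtain ⟨g', hg', rfl⟩ := hg
    show σ (y * g' * y⁻¹) = 1
    rw [map_mul, map_mul, show σ g' = 1 from hXM hg', mul_one, ← map_mul, mul_inv_cancel, map_one]
  obtain ⟨z, hz⟩ := MulAction.exists_smul_eq M (X.subtype hXM) ((y • X).subtype hXM')
  rw [Sylow.smul_subtype] at hz
  have hzX : (z : L) • X = y • X := Sylow.subtype_injective hz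
  set t : L := (z : L)⁻¹ * y with htdef
  have htX : t • X = X := by rw [htdef, mul_smul, ← hzX, inv_smul_smul]
  have hzk : σ (z : L) = 1 := z.2
  have htsgn : Equiv.Perm.sign (π t) = -1 := by
    show σ ((z : L)⁻¹ * y) = -1
    rw [map_mul, map_inv, hzk, inv_one, one_mul]
    exact hb0
  obtain ⟨hinv, hsq, hgen⟩ := perm_three_facts hxsgn htsgn
  have htxX : t * x * t⁻¹ ∈ (X : Subgroup L) := by
    have h : t * x * t⁻¹ ∈ ((t • X : Sylow 3 L) : Subgroup L) := ⟨x, hxX, rfl⟩
    rwa [htX] at h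
  have hXP : ∀ g ∈ (X : Subgroup L), π g = 1 → g = 1 := fun g hg h => by
    have h1 : orderOf g ∣ 3 := hXcard ▸ Subgroup.orderOf_dvd_natCard _ hg
    have h2 : orderOf g ∣ 32 := hcardP ▸ Subgroup.orderOf_dvd_natCard _ ((hπ g).1 h)
    exact orderOf_eq_one_iff.1 (Nat.dvd_one.1 (Nat.dvd_gcd h1 h2))
  have htx : t * x * t⁻¹ = x⁻¹ := by
    refine mul_inv_eq_one.1 (hXP _ (mul_mem htxX (inv_mem (inv_mem hxX))) ?_)
    rw [map_mul, map_mul, map_mul, map_inv, map_inv, map_inv, inv_inv, hinv, inv_mul_cancel]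
  have hfix : ∀ a ∈ Q, (x : G) * a * (x : G)⁻¹ = a → a = 1 ∨ a = s := by
    intro a ha hax
    have hac : a ∈ Q ⊓ Subgroup.centralizer (((X : Subgroup L).map L.subtype : Subgroup G) : Set G) := by
      refine ⟨ha, Subgroup.mem_centralizer_iff.2 ?_⟩
      rintro g ⟨g', hg', rfl⟩
      rw [← hxgen] at hg'
      obtain ⟨k, rfl⟩ := Subgroup.mem_zpowers_iff.1 hg'
      rw [map_zpow]
      exact (Commute.zpow_left (mul_inv_eq_iff_eq_mul.1 hax : Commute (x : G) a) k).eq
    obtain ⟨k, rfl⟩ := Subgroup.mem_zpowers_iff.1 (hCQX.le hac)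
    have : s ^ k = s ^ (k % 2) := by
      rw [← zpow_mod_orderOf, hs]; rfl
    rcases Int.emod_two_eq_zero_or_one k with h | h <;> rw [this, h] <;> simp
  -- properties of `Q`
  obtain ⟨⟨hp, hfr, hder⟩, hcen⟩ := hQex
  have hzmem : (⟨s, hsQ⟩ : Q) ∈ Subgroup.center Q :=
    Subgroup.mem_center_iff.2 fun g => Subtype.ext (hcs g (hQle g.2)).symm
  have hzen : ∀ g ∈ Subgroup.center Q, g = 1 ∨ g = ⟨s, hsQ⟩ := by
    intro g hg
    by_contra hno
    push_neg at hno
    have hsub : ({1, ⟨s, hsQ⟩, g} : Set Q) ⊆ (Subgroup.center Q : Set Q) := by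
      rintro a (rfl | rfl | rfl)
      · exact one_mem _
      · exact hzmem
      · exact hg
    have hle := Set.ncard_le_ncard hsub (Set.toFinite _)
    have h3 : ({1, ⟨s, hsQ⟩, g} : Set Q).ncard = 3 :=
      Set.ncard_eq_three.2 ⟨1, ⟨s, hsQ⟩, g, fun h => hs1 (congrArg Subtype.val h).symm, hno.1.symm,
        hno.2.symm, rfl⟩
    rw [← Nat.card_coe_set_eq (Subgroup.center Q : Set Q), show Nat.card (Subgroup.center Q : Set Q) = 2
      from hcen, h3] at hle
    omega
  have hcomm : ∀ a ∈ Q, ∀ b ∈ Q, a * b = b * a ∨ a * b = b * a * s := by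
    intro a ha b hb
    have h1 : (⟨a, ha⟩ : Q)⁻¹ * ⟨b, hb⟩⁻¹ * ⟨a, ha⟩ * ⟨b, hb⟩ ∈ Subgroup.center Q := by
      rw [← hder]
      have := Subgroup.commutator_mem_commutator (Subgroup.mem_top ((⟨a, ha⟩ : Q)⁻¹))
        (Subgroup.mem_top ((⟨b, hb⟩ : Q)⁻¹))
      simpa [commutator_def, commutatorElement_def] using this
    rcases hzen _ h1 with h | h <;> [left; right] <;>
    · have h' := congrArg (fun q : Q => b * a * (q : G)) h
      simpa [mul_assoc] using h'
  have hsq' : ∀ a ∈ Q, a * a = 1 ∨ a * a = s := by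
    intro a ha
    have h1 : (⟨a, ha⟩ : Q) ^ 2 ∈ Subgroup.center Q := by
      rw [← hfr]; exact H76.pow_mem_frattini hp _
    rcases hzen _ h1 with h | h <;> [left; right] <;>
    · simpa [pow_two] using congrArg Subtype.val h
  have hcentre : ∀ a ∈ Q, (∀ b ∈ Q, a * b = b * a) → a = 1 ∨ a = s := by
    intro a ha hall
    rcases hzen ⟨a, ha⟩ (Subgroup.mem_center_iff.2 fun g => Subtype.ext (hall g g.2).symm) with h | h
    · exact Or.inl (congrArg Subtype.val h)
    · exact Or.inr (congrArg Subtype.val h)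
  have hnorm : ∀ g : L, ∀ a ∈ Q, (g : G) * a * (g : G)⁻¹ ∈ Q := fun g a ha =>
    (hQmem (g * ⟨a, hQle ha⟩ * g⁻¹)).2 (Subgroup.Normal.conj_mem ‹P.Normal› _ ((hQmem _).1 ha) g)
  have raw : Raw s Q (x : G) (t : G) :=
    { card_Q := hQcard
      s_mem := hsQ
      ss := hss
      s_ne := hs1
      xs := (hcs _ x.2).symm
      ts := (hcs _ t.2).symm
      s_comm := fun a ha => hcs a (hQle ha)
      comm := hcomm
      sq := hsq'
      centre := hcentre
      x3 := by simpa using congrArg Subtype.val hx3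
      x_norm := hnorm x
      t_norm := hnorm t
      fix := hfix
      tx := by simpa using congrArg Subtype.val htx
      tt := by
        have h1 : t * t ∈ P := (hπ _).1 (by rw [map_mul, hsq])
        refine hfix ((t : G) * t) ((hQmem (t * t)).2 h1) ?_
        have h2 : t * t * x * (t * t)⁻¹ = x := by
          rw [show t * t * x * (t * t)⁻¹ = t * (t * x * t⁻¹) * t⁻¹ by group, htx,
            show t * x⁻¹ * t⁻¹ = (t * x * t⁻¹)⁻¹ by group, htx, inv_inv]
        have h3 := congrArg Subtype.val h2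
        simp only [Subgroup.coe_mul, Subgroup.coe_inv] at h3
        rw [mul_inv_eq_iff_eq_mul]
        exact (mul_inv_eq_iff_eq_mul.1 h3).symm
      cover := by
        intro g hg'
        have hg : g ∈ L := hL ▸ hg'
        obtain ⟨n, m, hnm⟩ := hgen hx1 (π ⟨g, hg⟩)
        refine ⟨n, n.2, m, m.2, ?_⟩
        have h1 : (⟨g, hg⟩ : L) * (x ^ (n : ℕ) * t ^ (m : ℕ))⁻¹ ∈ P := by
          rw [← hπ, map_mul, map_inv, map_mul, map_pow, map_pow, ← hnm, mul_inv_cancel]
        simpa using (hQmem _).2 h1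
      card_L := hL ▸ hcardL }
  exact raw.exists_frame

end H55.SThree
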