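import Cfsg.Agent.H55.SThree.ModelDef

/-! Facts on elementary subgroups of order eight of `Q` checked by evaluation. -/

set_option autoImplicit false

namespace H55.SThree

theorem qL_spec : ∀ c ∈ qL, c ∈ allL ∧ isQ c := by decide +kernel

theorem rL_of_isR : ∀ sw e : Bool, ∀ c ∈ qL, c ≠ 0 → c ≠ 96 → mulC sw e c c = 0 → c ∈ rL := by
  decide +kernel

theorem rL_sq : ∀ sw e : Bool, ∀ c ∈ rL, mulC sw e c c = 0 ∧ mulC sw e c 96 ∈ rL ∧
    kIx (mulC sw e c 96) = kIx c := by decide +kernel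

/-- An elementary subgroup containing `r` and `f` is `⟨s, r, f⟩`. -/
theorem inD_of_comm : ∀ sw e : Bool, ∀ r ∈ rL, ∀ f ∈ rL,
    isC sw e r f → f ≠ r → f ≠ mulC sw e r 96 → ∀ q ∈ qL, mulC sw e q q = 0 →
    isC sw e r q → isC sw e f q → inD sw e r f q := by decide +kernel

/-- The homogeneous elementary subgroup lies in the invariant one. -/
theorem inD_le : ∀ sw e : Bool, ∀ r ∈ rL, ∀ f ∈ rL,
    kIx f = kIx r → f ≠ r → f ≠ mulC sw e r 96 →
    ∀ q ∈ qL, inD sw e r f q → q ∈ eL (kIx r) := by decide +kernel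

/-- A mixed subgroup misses an element of the invariant subgroup of `r`. -/
theorem mixed_miss : ∀ sw e : Bool, ∀ r ∈ rL, ∀ f ∈ rL,
    kIx f ≠ kIx r → ∃ c ∈ eL (kIx r), ¬ inD sw e r f c := by decide +kernel

/-- The invariant subgroups are elementary. -/
theorem eL_elem : ∀ sw e : Bool, ∀ k ∈ List.range 3, ∀ c ∈ eL k, ∀ d ∈ eL k,
    mulC sw e c d ∈ eL k ∧ mulC sw e c d = mulC sw e d c ∧ mulC sw e c c = 0 := by decide +kernel

theorem qL_normal : ∀ sw e : Bool, ∀ g ∈ allL, ∀ c ∈ qL, conjC sw e g c ∈ qL := by decide +kernel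

theorem s_central : ∀ sw e : Bool, ∀ c ∈ allL, mulC sw e c 96 = mulC sw e 96 c ∧
    conjC sw e c 96 = 96 := by decide +kernel

end H55.SThree
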