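import Cfsg.Agent.H55.SThree.ModelDef

/-! Facts on the coordinates of `Q₈ ∘ Q₈ . S₃` checked by evaluation. -/

set_option autoImplicit false

namespace H55.SThree

/-- Centralizer orders of the noncentral involutions in `Q`. -/
theorem cnt_R : ∀ sw e : Bool, ∀ c ∈ rL,
    cnt sw e c = (if r32 sw c then 32 else 16) ∧ cntQ sw e c = 16 := by decide +kernel

/-- Centralizer orders of the involutions outside `Q`. -/
theorem cnt_out : ∀ sw e : Bool, ∀ c ∈ allL, isQ c = false → isI sw e c →
    cnt sw e c = (if sw then 16 else 8) := by decide +kernel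

/-- A noncentral involution of `Q` has two noncommuting centralizing elements in `Q`. -/
theorem exists_noncomm : ∀ sw e : Bool, ∀ c ∈ rL,
    ∃ a ∈ qL, isC sw e c a ∧ ∃ b ∈ qL, isC sw e c b ∧ ¬ isC sw e a b := by decide +kernel

/-- Some element of `Q` moves a given noncentral involution of `Q`. -/
theorem exists_moving : ∀ sw e : Bool, ∀ c ∈ rL,
    ∃ a ∈ qL, conjC sw e a c = mulC sw e c 96 := by decide +kernel

/-- Commutators and squares in `Q` are central. -/
theorem comm_Q : ∀ sw e : Bool, ∀ a ∈ qL,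
    (∀ b ∈ qL, mulC sw e a b = mulC sw e b a ∨ mulC sw e a b = mulC sw e (mulC sw e b a) 96) ∧
      (mulC sw e a a = 0 ∨ mulC sw e a a = 96) := by decide +kernel

/-- An elementary subgroup of order eight in `Q` of homogeneous type is the invariant one. -/
theorem inD_eq : ∀ sw e : Bool, ∀ r ∈ rL, ∀ f ∈ rL,
    kIx f = kIx r → f ≠ r → f ≠ mulC sw e r 96 →
    ∀ c ∈ eL (kIx r), inD sw e r f c := by decide +kernel

/-- Some element centralizing `r` translates `f` by `s`. -/
theorem exists_translation : ∀ sw e : Bool, ∀ r ∈ rL, ∀ f ∈ rL,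
    isC sw e r f → f ≠ r → f ≠ mulC sw e r 96 →
    ∃ y ∈ qL, isC sw e r y ∧ conjC sw e y f = mulC sw e f 96 := by decide +kernel

end H55.SThree
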