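import Cfsg.Agent.H55.SThree.Frame
import Cfsg.Agent.H55.SThree.ModelD
import Cfsg.Agent.H55.SThree.ModelQ
import Mathlib.Data.Finset.Image

/-! Basic consequences of coordinates on `C(s)`. -/

set_option autoImplicit false

namespace H55.SThree

variable {G : Type*} [Group G]

theorem zero_mem_allL : (0 : ℕ) ∈ allL := mem_allL.2 (by omega)

theorem s_mem_allL : (96 : ℕ) ∈ allL := mem_allL.2 (by omega)

theorem qL_allL {c : ℕ} (h : c ∈ qL) : c ∈ allL := (qL_spec c h).1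

theorem rL_qL {c : ℕ} (h : c ∈ rL) : c ∈ qL := (rL_spec c h).2.1

theorem rL_allL {c : ℕ} (h : c ∈ rL) : c ∈ allL := (rL_spec c h).1

theorem eL_qL {k c : ℕ} (hk : k ∈ List.range 3) (h : c ∈ eL k) : c ∈ qL := (eL_spec k hk c h).1

theorem eL_allL {k c : ℕ} (hk : k ∈ List.range 3) (h : c ∈ eL k) : c ∈ allL :=
  qL_allL (eL_qL hk h)

theorem eL_base {k : ℕ} (hk : k ∈ List.range 3) : 0 ∈ eL k ∧ 96 ∈ eL k := by
  have h := List.mem_range.1 hk
  rcases (show k = 0 ∨ k = 1 ∨ k = 2 by omega) with rfl | rfl | rfl <;> decide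

theorem mulC_consts : ∀ sw e : Bool, mulC sw e 0 0 = 0 ∧ mulC sw e 96 96 = 0 := by decide +kernel

namespace Frame

variable {s : G} {Q : Subgroup G} {sw e : Bool} {φ : ℕ → G}

theorem map_zero (F : Frame s Q sw e φ) : φ 0 = 1 := by
  have h := F.mul 0 zero_mem_allL 0 zero_mem_allL
  rwa [(mulC_consts sw e).1, mul_eq_left] at h

theorem ss (F : Frame s Q sw e φ) : s * s = 1 := by
  rw [← F.map_s, F.mul _ s_mem_allL _ s_mem_allL,
    (mulC_consts sw e).2, F.map_zero]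

theorem s_ne (F : Frame s Q sw e φ) : s ≠ 1 := fun h => by
  have := F.inj 96 s_mem_allL 0 zero_mem_allL (by rw [F.map_s, F.map_zero, h])
  omega

theorem s_mem (F : Frame s Q sw e φ) : s ∈ Q := by
  rw [← F.map_s]; exact (F.mem_Q 96 s_mem_allL).2 (by decide)

theorem commute_iff (F : Frame s Q sw e φ) {c d : ℕ} (hc : c ∈ allL) (hd : d ∈ allL) :
    Commute (φ c) (φ d) ↔ isC sw e c d = true := by
  unfold Commute SemiconjBy
  rw [F.mul c hc d hd, F.mul d hd c hc, isC, beq_iff_eq]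
  exact ⟨fun h => F.inj _ (mem_allL.2 (mulC_lt sw e c hc d hd)) _
    (mem_allL.2 (mulC_lt sw e d hd c hc)) h, fun h => by rw [h]⟩

theorem map_conj (F : Frame s Q sw e φ) {g c : ℕ} (hg : g ∈ allL) (hc : c ∈ allL) :
    φ g * φ c * (φ g)⁻¹ = φ (conjC sw e g c) := by
  obtain ⟨h1, h2⟩ := invC_spec sw e g hg
  have hi := mem_allL.2 h1
  have : (φ g)⁻¹ = φ (invC sw e g) := by
    apply inv_eq_of_mul_eq_one_right
    rw [F.mul g hg _ hi, h2, F.map_zero]
  rw [this, F.mul g hg c hc, F.mul _ (mem_allL.2 (mulC_lt sw e g hg c hc)) _ hi]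
  rfl

theorem conjC_mem (sw e : Bool) {g c : ℕ} (hg : g ∈ allL) (hc : c ∈ allL) :
    conjC sw e g c ∈ allL :=
  mem_allL.2 (mulC_lt sw e _ (mem_allL.2 (mulC_lt sw e g hg c hc)) _
    (mem_allL.2 (invC_spec sw e g hg).1))

theorem surj_Q (F : Frame s Q sw e φ) {g : G} (hg : g ∈ Q) : ∃ c ∈ qL, φ c = g := by
  obtain ⟨c, hc, rfl⟩ := F.surj g (F.Q_le hg)
  exact ⟨c, (F.mem_Q c hc).1 hg, rfl⟩

theorem s_comm (F : Frame s Q sw e φ) {g : G} (hg : g ∈ Subgroup.centralizer ({s} : Set G)) :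
    Commute g s :=
  Subgroup.mem_centralizer_singleton_iff.1 hg

theorem mem_L_iff {g : G} : g ∈ Subgroup.centralizer ({s} : Set G) ↔ Commute g s :=
  Subgroup.mem_centralizer_singleton_iff

/-- An involution of `Q` other than `s` has a code in `rL`. -/
theorem code_of_invol (F : Frame s Q sw e φ) {r : G} (hr : r ∈ Q) (h2 : r * r = 1) (h1 : r ≠ 1)
    (hs : r ≠ s) : ∃ a ∈ rL, φ a = r := by
  obtain ⟨a, ha, rfl⟩ := F.surj_Q hr
  refine ⟨a, rL_of_isR sw e a ha (fun h => h1 (by rw [h, F.map_zero]))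
    (fun h => hs (by rw [h, F.map_s])) ?_, rfl⟩
  rw [F.mul a (qL_allL ha) a (qL_allL ha), ← F.map_zero] at h2
  exact F.inj _ (mem_allL.2 (mulC_lt sw e a (qL_allL ha) a (qL_allL ha))) _ zero_mem_allL h2

/-- Conjugates of a frame. -/
theorem conj (F : Frame s Q sw e φ) (g : G) :
    Frame (g * s * g⁻¹) (Q.map (MulAut.conj g).toMonoidHom) sw e (fun c => g * φ c * g⁻¹) := by
  have hcs : ∀ y : G, y ∈ Subgroup.centralizer ({g * s * g⁻¹} : Set G) ↔
      g⁻¹ * y * g ∈ Subgroup.centralizer ({s} : Set G) := fun y => by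
    rw [mem_L_iff, mem_L_iff]
    constructor <;> intro h <;> show _ = _
    · calc g⁻¹ * y * g * s = g⁻¹ * (y * (g * s * g⁻¹)) * g := by group
        _ = g⁻¹ * (g * s * g⁻¹ * y) * g := by rw [h.eq]
        _ = s * (g⁻¹ * y * g) := by group
    · calc y * (g * s * g⁻¹) = g * (g⁻¹ * y * g * s) * g⁻¹ := by group
        _ = g * (s * (g⁻¹ * y * g)) * g⁻¹ := by rw [h.eq]
        _ = g * s * g⁻¹ * y := by group
  refine ⟨fun c hc d hd h => F.inj c hc d hd (mul_left_cancel (mul_right_cancel h)),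
    fun c hc => (hcs _).2 ?_, fun y hy => ?_, fun c hc d hd => ?_, ?_, fun c hc => ?_, ?_⟩
  · rw [show g⁻¹ * (g * φ c * g⁻¹) * g = φ c by group]; exact F.mem c hc
  · obtain ⟨c, hc, e1⟩ := F.surj _ ((hcs y).1 hy)
    exact ⟨c, hc, by rw [e1]; group⟩
  · rw [← F.mul c hc d hd]; group
  · rw [F.map_s]
  · rw [← F.mem_Q c hc]
    exact ⟨fun ⟨q, hq, h⟩ => (mul_left_cancel (mul_right_cancel h) : q = φ c) ▸ hq,
      fun h => ⟨φ c, h, rfl⟩⟩
  · rintro y ⟨q, hq, rfl⟩
    refine (hcs _).2 ?_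
    show g⁻¹ * (g * q * g⁻¹) * g ∈ _
    rw [show g⁻¹ * (g * q * g⁻¹) * g = q by group]
    exact F.Q_le hq

/-- The order of the centralizer of a coded element in `C(s)`. -/
theorem card_cent (F : Frame s Q sw e φ) {a : ℕ} (ha : a ∈ allL) :
    Nat.card ↥(Subgroup.centralizer ({s} : Set G) ⊓ Subgroup.centralizer ({φ a} : Set G)) =
      cnt sw e a := by
  classical
  set l := allL.filter fun d => isC sw e a d
  have hl : ∀ {d}, d ∈ l → d ∈ allL ∧ isC sw e a d = true := fun h => List.mem_filter.1 h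
  have hnd : l.Nodup := List.nodup_range.filter _
  let f : l.toFinset → ↥(Subgroup.centralizer ({s} : Set G) ⊓ Subgroup.centralizer ({φ a} : Set G)) :=
    fun d => ⟨φ d, F.mem d (hl (List.mem_toFinset.1 d.2)).1, mem_L_iff.2
      ((F.commute_iff ha (hl (List.mem_toFinset.1 d.2)).1).2 (hl (List.mem_toFinset.1 d.2)).2).symm⟩
  have hf : Function.Bijective f := by
    refine ⟨fun d d' h => Subtype.ext (F.inj _ (hl (List.mem_toFinset.1 d.2)).1 _
      (hl (List.mem_toFinset.1 d'.2)).1 (congrArg Subtype.val h)), fun y => ?_⟩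
    obtain ⟨d, hd, e1⟩ := F.surj y.1 y.2.1
    have hc : isC sw e a d = true :=
      (F.commute_iff ha hd).1 (e1 ▸ (mem_L_iff.1 y.2.2).symm)
    exact ⟨⟨d, List.mem_toFinset.2 (List.mem_filter.2 ⟨hd, hc⟩)⟩, Subtype.ext e1⟩
  rw [← Nat.card_eq_of_bijective f hf, Nat.card_eq_fintype_card, Fintype.card_coe,
    List.toFinset_card_of_nodup hnd]
  rfl

/-- The order of the centralizer of a coded element in `Q`. -/
theorem card_centQ (F : Frame s Q sw e φ) {a : ℕ} (ha : a ∈ allL) :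
    Nat.card ↥(Q ⊓ Subgroup.centralizer ({φ a} : Set G)) = cntQ sw e a := by
  classical
  set l := allL.filter fun d => isQ d && isC sw e a d
  have hl : ∀ {d}, d ∈ l → d ∈ allL ∧ d ∈ qL ∧ isC sw e a d = true := fun {d} h => by
    obtain ⟨h1, h2⟩ := List.mem_filter.1 h
    rw [Bool.and_eq_true] at h2
    refine ⟨h1, ?_, h2.2⟩
    have := isQ_iff d h1
    rw [h2.1] at this
    exact of_decide_eq_true this.symm
  have hnd : l.Nodup := List.nodup_range.filter _
  let f : l.toFinset → ↥(Q ⊓ Subgroup.centralizer ({φ a} : Set G)) :=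
    fun d => ⟨φ d, (F.mem_Q d (hl (List.mem_toFinset.1 d.2)).1).2 (hl (List.mem_toFinset.1 d.2)).2.1,
      mem_L_iff.2 ((F.commute_iff ha (hl (List.mem_toFinset.1 d.2)).1).2
        (hl (List.mem_toFinset.1 d.2)).2.2).symm⟩
  have hf : Function.Bijective f := by
    refine ⟨fun d d' h => Subtype.ext (F.inj _ (hl (List.mem_toFinset.1 d.2)).1 _
      (hl (List.mem_toFinset.1 d'.2)).1 (congrArg Subtype.val h)), fun y => ?_⟩
    obtain ⟨d, hd, e1⟩ := F.surj_Q y.2.1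
    have hc : isC sw e a d = true :=
      (F.commute_iff ha (qL_allL hd)).1 (e1 ▸ (mem_L_iff.1 y.2.2).symm)
    refine ⟨⟨d, List.mem_toFinset.2 (List.mem_filter.2 ⟨qL_allL hd, ?_⟩)⟩, Subtype.ext e1⟩
    rw [hc, (qL_spec d hd).2]; rfl
  rw [← Nat.card_eq_of_bijective f hf, Nat.card_eq_fintype_card, Fintype.card_coe,
    List.toFinset_card_of_nodup hnd]
  rfl

/-- Commutators in `Q` lie in `⟨s⟩`. -/
theorem comm_cases (F : Frame s Q sw e φ) {x y : G} (hx : x ∈ Q) (hy : y ∈ Q) :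
    x * y = y * x ∨ x * y = y * x * s := by
  obtain ⟨a, ha, rfl⟩ := F.surj_Q hx
  obtain ⟨b, hb, rfl⟩ := F.surj_Q hy
  have hba := mem_allL.2 (mulC_lt sw e b (qL_allL hb) a (qL_allL ha))
  rw [F.mul a (qL_allL ha) b (qL_allL hb), F.mul b (qL_allL hb) a (qL_allL ha), ← F.map_s,
    F.mul _ hba _ s_mem_allL]
  rcases (comm_Q sw e a ha).1 b hb with h | h
  · exact Or.inl (by rw [h])
  · exact Or.inr (by rw [h])

/-- Squares in `Q` lie in `⟨s⟩`. -/
theorem sq_cases (F : Frame s Q sw e φ) {x : G} (hx : x ∈ Q) : x * x = 1 ∨ x * x = s := by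
  obtain ⟨a, ha, rfl⟩ := F.surj_Q hx
  rw [F.mul a (qL_allL ha) a (qL_allL ha)]
  rcases (comm_Q sw e a ha).2 with h | h
  · exact Or.inl (by rw [h, F.map_zero])
  · exact Or.inr (by rw [h, F.map_s])

end Frame

end H55.SThree
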