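import Cfsg.Agent.H55.SThree.Units
import Mathlib.Data.Fintype.Card
import Mathlib.Data.Finite.Card
import Mathlib.Data.Fintype.EquivFin
import Mathlib.SetTheory.Cardinal.Finite
import Mathlib.Algebra.Group.Subgroup.Lattice
import Mathlib.GroupTheory.Subgroup.Centralizer
import Mathlib.Algebra.Group.Subgroup.Finite

/-!
An extension of `Q₈ ∘ Q₈` by `S₃` with fixed point free element of order three has one of four
multiplication tables.
-/

set_option autoImplicit false

namespace H55.SThree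

variable {G : Type*} [Group G]

theorem xor_small : ∀ a < 4, ∀ b < 4, a ^^^ b = 0 → a = b := by decide

/-- `C(s)` in coordinates. -/
structure Frame (s : G) (Q : Subgroup G) (sw e : Bool) (φ : ℕ → G) : Prop where
  inj : ∀ c ∈ allL, ∀ d ∈ allL, φ c = φ d → c = d
  mem : ∀ c ∈ allL, φ c ∈ Subgroup.centralizer ({s} : Set G)
  surj : ∀ g ∈ Subgroup.centralizer ({s} : Set G), ∃ c ∈ allL, φ c = g
  mul : ∀ c ∈ allL, ∀ d ∈ allL, φ c * φ d = φ (mulC sw e c d)
  map_s : φ 96 = s
  mem_Q : ∀ c ∈ allL, φ c ∈ Q ↔ c ∈ qL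
  Q_le : Q ≤ Subgroup.centralizer ({s} : Set G)

/-- The hypotheses on `Q`, an element `x` of order three and `t` inverting it. -/
structure Raw (s : G) (Q : Subgroup G) (x t : G) : Prop where
  card_Q : Nat.card Q = 32
  s_mem : s ∈ Q
  ss : s * s = 1
  s_ne : s ≠ 1
  xs : x * s = s * x
  ts : t * s = s * t
  s_comm : ∀ a ∈ Q, s * a = a * s
  comm : ∀ a ∈ Q, ∀ b ∈ Q, a * b = b * a ∨ a * b = b * a * s
  sq : ∀ a ∈ Q, a * a = 1 ∨ a * a = s
  centre : ∀ a ∈ Q, (∀ b ∈ Q, a * b = b * a) → a = 1 ∨ a = s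
  x3 : x * x * x = 1
  x_norm : ∀ a ∈ Q, x * a * x⁻¹ ∈ Q
  t_norm : ∀ a ∈ Q, t * a * t⁻¹ ∈ Q
  fix : ∀ a ∈ Q, x * a * x⁻¹ = a → a = 1 ∨ a = s
  tx : t * x * t⁻¹ = x⁻¹
  tt : t * t = 1 ∨ t * t = s
  cover : ∀ g ∈ Subgroup.centralizer ({s} : Set G), ∃ n < 3, ∃ b < 2,
    g * (x ^ n * t ^ b)⁻¹ ∈ Q
  card_L : Nat.card (Subgroup.centralizer ({s} : Set G)) = 192

namespace Raw

variable {s x t : G} {Q : Subgroup G}

theorem spow_mem (h : Raw s Q x t) (z : ℕ) : s ^ z ∈ Q := Q.pow_mem h.s_mem z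

theorem spow_eq (h : Raw s Q x t) (z : ℕ) : s ^ z = s ^ (z % 2) := by
  conv_lhs => rw [← Nat.mod_add_div z 2]
  rw [pow_add, pow_mul, pow_two, h.ss, one_pow, mul_one]

theorem scomm_pow (h : Raw s Q x t) (z : ℕ) {a : G} (ha : a ∈ Q) : s ^ z * a = a * s ^ z :=
  Commute.pow_left (h.s_comm a ha) z

/-- An element of order four of `Q` gives a triple, up to a factor `s`. -/
theorem exists_triple (h : Raw s Q x t) {q : G} (hq : q ∈ Q) (hq2 : q * q = s) :
    Triple s x q ∨ Triple s x (q * s) := by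
  set j := x * q * x⁻¹ with hj
  set k := x * j * x⁻¹ with hk
  have hjQ : j ∈ Q := h.x_norm q hq
  have hkQ : k ∈ Q := h.x_norm j hjQ
  have hxs : x * s * x⁻¹ = s := by rw [h.xs, mul_inv_cancel_right]
  have hj2 : j * j = s := by rw [hj, ← conj_mul', hq2, hxs]
  have hk2 : k * k = s := by rw [hk, ← conj_mul', hj2, hxs]
  have hkq : x * k * x⁻¹ = q := by
    rw [hk, hj, show x * (x * (x * q * x⁻¹) * x⁻¹) * x⁻¹ = (x * x * x) * q * (x * x * x)⁻¹ by group,
      h.x3, one_mul, inv_one, mul_one]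
  have hPQ : q * j * k ∈ Q := Q.mul_mem (Q.mul_mem hq hjQ) hkQ
  have hPx : x * (q * j * k) * x⁻¹ = j * k * q := by
    rw [conj_mul', conj_mul', ← hj, ← hk, hkq]
  have hP : q * j * k = 1 ∨ q * j * k = s := by
    refine h.fix _ hPQ ?_
    rcases h.comm q hq (j * k) (Q.mul_mem hjQ hkQ) with hc | hc
    · rw [hPx, ← hc]; exact (mul_assoc q j k).symm
    · exfalso
      have h1 : x * (q * j * k) * x⁻¹ = q * j * k * s := by
        rw [hPx, mul_assoc q j k, hc, mul_assoc (j * k * q), h.ss, mul_one]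
      generalize q * j * k = P at h1
      have h2 : x * (x * (x * P * x⁻¹) * x⁻¹) * x⁻¹ = P := by
        rw [show x * (x * (x * P * x⁻¹) * x⁻¹) * x⁻¹ = (x * x * x) * P * (x * x * x)⁻¹ by group,
          h.x3, one_mul, inv_one, mul_one]
      have h3 : x * (P * s) * x⁻¹ = P := by
        rw [conj_mul', h1, hxs, mul_assoc, h.ss, mul_one]
      rw [h1, h3, h1] at h2
      exact h.s_ne (mul_left_cancel (h2.trans (mul_one P).symm))
  have hqj : j * q = q * j * s := by
    rcases h.comm j hjQ q hq with hc | hc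
    · exfalso
      have h4 : (q * j) * (q * j) = 1 := by
        rw [mul_assoc, ← mul_assoc j, hc, mul_assoc q j, hj2, ← mul_assoc, hq2, h.ss]
      rcases hP with hP | hP
      · have h5 : k = (q * j)⁻¹ := eq_inv_of_mul_eq_one_right hP
        rw [h5, ← mul_inv_rev, h4, inv_one] at hk2
        exact h.s_ne hk2.symm
      · have h5 : k = (q * j)⁻¹ * s := by rw [← hP, inv_mul_cancel_left]
        have h6 : k * k = 1 := by
          rw [h5, inv_eq_of_mul_eq_one_right h4, mul_assoc (q * j) s, ← mul_assoc s,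
            h.s_comm _ (Q.mul_mem hq hjQ), mul_assoc (q * j) s s, h.ss, mul_one, h4]
        exact h.s_ne (hk2.symm.trans h6)
    · rw [hc]
  have hqjqj : (q * j) * (q * j) = s := by
    rw [mul_assoc, ← mul_assoc j, hqj, mul_assoc (q * j), h.s_comm j hjQ, mul_assoc q j,
      ← mul_assoc j j, hj2, h.ss, mul_one, hq2]
  have hinv : (q * j)⁻¹ = q * j * s := by
    apply inv_eq_of_mul_eq_one_right
    rw [← mul_assoc, hqjqj, h.ss]
  rcases hP with hP | hP
  · have e1 : x * (q * s) * x⁻¹ = j * s := by rw [conj_mul', hxs]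
    have e2 : x * (j * s) * x⁻¹ = k * s := by rw [conj_mul', hxs]
    have sj := h.s_comm j hjQ
    have sq' := h.s_comm q hq
    have e3 : q * s * (j * s) = q * j := by
      rw [mul_assoc q s, ← mul_assoc s j, sj, mul_assoc j s s, h.ss, mul_one]
    refine Or.inr ⟨?_, ?_, ?_, ?_⟩
    · rw [mul_assoc q s, ← mul_assoc s q, sq', mul_assoc q s s, h.ss, mul_one, hq2]
    · exact h.s_comm _ (Q.mul_mem hq h.s_mem)
    · rw [e1, e3, mul_assoc j s, ← mul_assoc s q, sq', mul_assoc q s s, h.ss, mul_one, hqj]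
    · rw [e1, e2, e3, eq_inv_of_mul_eq_one_right hP, hinv, mul_assoc (q * j), h.ss, mul_one]
  · refine Or.inl ⟨hq2, h.s_comm q hq, hqj, ?_⟩
    show x * j * x⁻¹ = q * j
    rw [← hk, show k = (q * j)⁻¹ * s by rw [← hP, inv_mul_cancel_left], hinv, mul_assoc (q * j),
      h.ss, mul_one]

theorem unit_mem (h : Raw s Q x t) {i : G} (hi : i ∈ Q) (u : ℕ) : unit' x i u ∈ Q := by
  unfold unit'
  split_ifs
  · exact Q.one_mem
  · exact hi
  · exact h.x_norm i hi
  · exact Q.mul_mem hi (h.x_norm i hi)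

/-- An element of `Q` commutes with a triple element or anticommutes with it. -/
theorem comm_or (h : Raw s Q x t) {a b : G} (ha : a ∈ Q) (hb : b ∈ Q) :
    Commute a b ∨ a * b = b * a * s := h.comm a ha b hb

/-- The commutant of a triple in `Q` meets the triple only in `⟨s⟩`. -/
theorem commutant_inter (h : Raw s Q x t) {i : G} (T : Triple s x i) (hi : i ∈ Q) {z u : ℕ}
    (hu : u < 4) (h1 : Commute (s ^ z * unit' x i u) i)
    (h2 : Commute (s ^ z * unit' x i u) (x * i * x⁻¹)) : u = 0 := by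
  have hss := h.ss
  have k1 : Commute (unit' x i u) i := by
    have : Commute (s ^ z) i := h.scomm_pow z hi
    have h' := ((this.inv_left).mul_left h1)
    rwa [inv_mul_cancel_left] at h'
  have k2 : Commute (unit' x i u) (x * i * x⁻¹) := by
    have : Commute (s ^ z) (x * i * x⁻¹) := h.scomm_pow z (h.x_norm i hi)
    have h' := ((this.inv_left).mul_left h2)
    rwa [inv_mul_cancel_left] at h'
  rw [← unit'_one (x := x) (i := i)] at k1
  rw [← unit'_two (x := x) (i := i)] at k2
  have e1 : s ^ sgnT u 1 * unit' x i (u ^^^ 1) = s ^ sgnT 1 u * unit' x i (1 ^^^ u) := by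
    rw [← T.unit_mul h.xs hss u 1 hu (by omega), ← T.unit_mul h.xs hss 1 u (by omega) hu]; exact k1
  have e2 : s ^ sgnT u 2 * unit' x i (u ^^^ 2) = s ^ sgnT 2 u * unit' x i (2 ^^^ u) := by
    rw [← T.unit_mul h.xs hss u 2 hu (by omega), ← T.unit_mul h.xs hss 2 u (by omega) hu]; exact k2
  rw [Nat.xor_comm u 1, mul_left_inj] at e1
  rw [Nat.xor_comm u 2, mul_left_inj] at e2
  rcases Nat.lt_succ_iff.1 hu |>.eq_or_lt with rfl | hu
  · rw [show sgnT 3 1 = 0 from rfl, show sgnT 1 3 = 1 from rfl, pow_zero, pow_one] at e1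
    exact absurd e1.symm h.s_ne
  rcases Nat.lt_succ_iff.1 hu |>.eq_or_lt with rfl | hu
  · rw [show sgnT 2 1 = 1 from rfl, show sgnT 1 2 = 0 from rfl, pow_zero, pow_one] at e1
    exact absurd e1 h.s_ne
  rcases Nat.lt_succ_iff.1 hu |>.eq_or_lt with rfl | hu
  · rw [show sgnT 1 2 = 0 from rfl, show sgnT 2 1 = 1 from rfl, pow_zero, pow_one] at e2
    exact absurd e2.symm h.s_ne
  · omega

/-- A second triple commuting with a given one fills `Q`. -/
theorem pair_surj [Finite G] (h : Raw s Q x t) {i a : G} (T : Triple s x i) (T' : Triple s x a)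
    (hi : i ∈ Q) (ha : a ∈ Q) (hc : ∀ u < 4, ∀ v < 4, Commute (unit' x i u) (unit' x a v)) :
    ∀ q ∈ Q, ∃ z < 2, ∃ u < 4, ∃ v < 4, q = s ^ z * unit' x i u * unit' x a v := by
  classical
  let f : Fin 2 × Fin 4 × Fin 4 → Q := fun w =>
    ⟨s ^ (w.1 : ℕ) * unit' x i w.2.1 * unit' x a w.2.2,
      Q.mul_mem (Q.mul_mem (h.spow_mem _) (h.unit_mem hi _)) (h.unit_mem ha _)⟩
  have hinj : Function.Injective f := by
    rintro ⟨⟨z, hz⟩, ⟨u, hu⟩, ⟨v, hv⟩⟩ ⟨⟨z', hz'⟩, ⟨u', hu'⟩, ⟨v', hv'⟩⟩ he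
    simp only [f, Subtype.mk.injEq] at he
    have hcs : ∀ w, ∀ b ∈ Q, Commute (s ^ w) b := fun w b hb => h.scomm_pow w hb
    have cA : ∀ w < 4, Commute (s ^ z * unit' x i u * unit' x a v) (unit' x i w) →
        Commute (s ^ z * unit' x i u) (unit' x i w) := fun w hw hh => by
      have := hh.mul_left ((hc w hw v hv).symm.inv_left)
      rwa [mul_inv_cancel_right] at this
    -- multiply on the left by the inverse of the first factor
    obtain ⟨w, hwlt, y, hy⟩ : ∃ w < 4, ∃ y : ℕ,
        (s ^ z' * unit' x i u')⁻¹ * (s ^ z * unit' x i u) = s ^ y * unit' x i w := by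
      have huinv : (unit' x i u')⁻¹ = s ^ sgnT u' u' * unit' x i u' := by
        have hm := T.unit_mul h.xs h.ss u' u' hu' hu'
        rw [Nat.xor_self, unit'_zero, mul_one] at hm
        apply inv_eq_of_mul_eq_one_right
        rw [← mul_assoc, ← (hcs _ _ (h.unit_mem hi _)).eq, mul_assoc, hm, ← pow_add, h.spow_eq,
          show (sgnT u' u' + sgnT u' u') % 2 = 0 by omega, pow_zero]
      refine ⟨u' ^^^ u, Nat.xor_lt_two_pow (n := 2) hu' hu,
        z' + sgnT u' u' + z + sgnT u' u, ?_⟩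
      have hzinv : (s ^ z')⁻¹ = s ^ z' := by
        apply inv_eq_of_mul_eq_one_right
        rw [← pow_add, h.spow_eq, show (z' + z') % 2 = 0 by omega, pow_zero]
      rw [mul_inv_rev, huinv, hzinv, (hcs _ _ (h.unit_mem hi u')).eq, mul_assoc (unit' x i u'),
        ← pow_add, mul_assoc (unit' x i u'), ← mul_assoc (s ^ _) (s ^ z), ← pow_add,
        ← mul_assoc, ← (hcs _ _ (h.unit_mem hi u')).eq, mul_assoc, T.unit_mul h.xs h.ss u' u hu' hu,
        ← mul_assoc, ← pow_add]
      congr 2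
      omega
    have he2 : (s ^ z' * unit' x i u')⁻¹ * (s ^ z * unit' x i u) =
        unit' x a v' * (unit' x a v)⁻¹ := by
      rw [inv_mul_eq_iff_eq_mul, ← mul_assoc, ← he, mul_inv_cancel_right]
    have hw0 : w = 0 := by
      refine h.commutant_inter T hi (z := y) hwlt ?_ ?_
      · rw [← hy, he2]
        have e1 : ∀ k < 4, Commute (unit' x a k) i := fun k hk => by
          have := (hc 1 (by omega) k hk).symm; rwa [unit'_one] at this
        exact (e1 v' hv').mul_left (e1 v hv).inv_left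
      · rw [← hy, he2]
        have e1 : ∀ k < 4, Commute (unit' x a k) (x * i * x⁻¹) := fun k hk => by
          have := (hc 2 (by omega) k hk).symm; rwa [unit'_two] at this
        exact (e1 v' hv').mul_left (e1 v hv).inv_left
    rw [hw0, unit'_zero, mul_one] at hy
    -- the second factors agree up to `s`
    have hvv : v = v' := by
      have h3 : unit' x a v' = s ^ y * unit' x a v := by
        rw [← hy, he2, inv_mul_cancel_right]
      by_contra hne
      have hm := T'.unit_mul h.xs h.ss v' v hv' hv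
      have hm' := T'.unit_mul h.xs h.ss v v hv hv
      rw [h3, mul_assoc, hm', Nat.xor_self, unit'_zero, mul_one, ← pow_add] at hm
      have h4 : unit' x a (v' ^^^ v) = s ^ (sgnT v' v + (y + sgnT v v)) := by
        rw [pow_add, hm, ← mul_assoc, ← pow_add, h.spow_eq,
          show (sgnT v' v + sgnT v' v) % 2 = 0 by omega, pow_zero, one_mul]
      have h5 : v' ^^^ v = 0 := by
        refine h.commutant_inter (z := 0) T' ha (Nat.xor_lt_two_pow (n := 2) hv' hv) ?_ ?_ <;>
          rw [pow_zero, one_mul, h4]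
        · exact hcs _ _ ha
        · exact hcs _ _ (h.x_norm a ha)
      exact hne (xor_small _ hv' _ hv h5).symm
    subst hvv
    have he3 := mul_right_cancel he
    have huu : u = u' := by
      by_contra hne
      have hm := T.unit_mul h.xs h.ss u u' hu hu'
      have hm' := T.unit_mul h.xs h.ss u' u' hu' hu'
      have h3 : unit' x i u = s ^ (z + z') * unit' x i u' := by
        rw [pow_add, mul_assoc, ← he3, ← mul_assoc, ← pow_add, h.spow_eq,
          show (z + z) % 2 = 0 by omega, pow_zero, one_mul]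
      rw [h3, mul_assoc, hm', Nat.xor_self, unit'_zero, mul_one, ← pow_add] at hm
      have h4 : unit' x i (u ^^^ u') = s ^ (sgnT u u' + (z + z' + sgnT u' u')) := by
        rw [pow_add, hm, ← mul_assoc, ← pow_add, h.spow_eq,
          show (sgnT u u' + sgnT u u') % 2 = 0 by omega, pow_zero, one_mul]
      have h5 : u ^^^ u' = 0 := by
        refine h.commutant_inter (z := 0) T hi (Nat.xor_lt_two_pow (n := 2) hu hu') ?_ ?_ <;>
          rw [pow_zero, one_mul, h4]
        · exact hcs _ _ hi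
        · exact hcs _ _ (h.x_norm i hi)
      exact hne (xor_small _ hu _ hu' h5)
    subst huu
    have he4 := mul_right_cancel he3
    have : z = z' := by
      rcases Nat.lt_succ_iff.1 hz |>.eq_or_lt with rfl | hz1 <;>
        rcases Nat.lt_succ_iff.1 hz' |>.eq_or_lt with rfl | hz2
      · rfl
      · rw [show z' = 0 by omega, pow_zero, pow_one] at he4; exact absurd he4 h.s_ne
      · rw [show z = 0 by omega, pow_zero, pow_one] at he4; exact absurd he4.symm h.s_ne
      · omega
    subst this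
    rfl
  have hbij : Function.Bijective f := by
    refine hinj.bijective_of_nat_card_le ?_
    rw [h.card_Q]; simp
  intro q hq
  obtain ⟨⟨z, u, v⟩, hw⟩ := hbij.2 ⟨q, hq⟩
  exact ⟨z, z.2, u, u.2, v, v.2, (congrArg Subtype.val hw).symm⟩

end Raw

end H55.SThree
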