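import Cfsg.Agent.H55.SThree.ModelDef

/-! Facts on the coordinates of `Q₈ ∘ Q₈ . S₃` checked by evaluation. -/

set_option autoImplicit false

namespace H55.SThree

/-- `L` is transitive on the noncentral part of an invariant elementary subgroup. -/
theorem inE_trans : ∀ sw e : Bool, ∀ r ∈ rL, r32 sw r → ∀ c ∈ eL (kIx r), c ≠ 0 → c ≠ 96 →
    ∃ g ∈ allL, conjC sw e g r = c := by decide +kernel

/-- The invariant elementary subgroups are normal. -/
theorem inE_normal : ∀ sw e : Bool, ∀ k ∈ List.range 3, (sw || k == 0) = true →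
    ∀ c ∈ eL k, ∀ g ∈ allL, conjC sw e g c ∈ eL k := by decide +kernel

/-- A mixed elementary subgroup is not normal. -/
theorem inD_mixed : ∀ sw e : Bool, ∀ r ∈ rL, r32 sw r → ∀ f ∈ rL,
    isC sw e r f → kIx f ≠ kIx r →
    ∃ g ∈ allL, ¬ inD sw e r f (conjC sw e g r) := by decide +kernel

/-- If `t * t = s` all involutions lie in `Q`. -/
theorem minus_invol : ∀ sw : Bool, ∀ c ∈ allL, isI sw true c → isQ c := by decide +kernel

/-- The invariant elementary subgroups are self centralizing. -/
theorem inE_selfCent : ∀ sw e : Bool, ∀ k ∈ List.range 3, ∀ c ∈ allL,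
    (c ∈ eL k) ∨ ∃ d ∈ eL k, ¬ isC sw e c d := by decide +kernel

/-- An element acting on `E` modulo `⟨s⟩` trivially lies in `Q`. -/
theorem mem_Q_of_translation : ∀ sw e : Bool, ∀ k ∈ List.range 3, (sw || k == 0) = true →
    ∀ c ∈ allL, isQ c = false →
    ∃ d ∈ eL k, conjC sw e c d ≠ d ∧ conjC sw e c d ≠ mulC sw e d 96 := by decide +kernel

/-- An involution of `Q` outside `E`, with a fixed and a moved element in `E`. -/
theorem exists_elation : ∀ sw e : Bool, ∀ k ∈ List.range 3, (sw || k == 0) = true →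
    ∃ u ∈ rL, kIx u ≠ k ∧
      (∃ d ∈ eL k, d ≠ 0 ∧ d ≠ 96 ∧ isC sw e u d) ∧
      ∃ d ∈ eL k, conjC sw e u d = mulC sw e d 96 := by decide +kernel

/-- An outer involution has a centre on `E` different from `s`. -/
theorem exists_centre : ∀ sw e : Bool, ∀ k ∈ List.range 3, (sw || k == 0) = true →
    ∀ u ∈ allL, isQ u = false → isI sw e u →
    ∃ a ∈ eL k, a ≠ 96 ∧ a ≠ 0 ∧ conjC sw e u a = a ∧
      ∀ d ∈ eL k, conjC sw e u d = d ∨ conjC sw e u d = mulC sw e d a := by decide +kernel

/-- In the exchanging case, the centralizer of `r` moves a mixed element by `s` only. -/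
theorem swap_translation : ∀ e : Bool, ∀ r ∈ rL, ∀ f ∈ rL,
    isC true e r f → kIx f ≠ kIx r → ∀ y ∈ allL, isC true e r y →
    conjC true e y f = f ∨ conjC true e y f = mulC true e f 96 := by decide +kernel

end H55.SThree
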