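import Cfsg.Agent.H55.SThree.Basic
import Cfsg.Agent.H55.SThree.ModelL
import Mathlib.GroupTheory.Index

/-!
The two kinds of conjugates of `s` in `Q`: either an invariant elementary subgroup of order eight
has a normalizer transitive on it, or the table is that of the involution centralizer of `M₁₂`.
-/

set_option autoImplicit false

namespace H55.SThree

variable {G : Type*} [Group G]

/-- The invariant subgroup of index `k` is normalized by elements moving `s` everywhere in it. -/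
def Fused (s : G) (sw : Bool) (φ : ℕ → G) (k : ℕ) : Prop :=
  k ∈ List.range 3 ∧ (sw || k == 0) = true ∧ ∃ D : Subgroup G,
    (∀ g, g ∈ D ↔ ∃ c ∈ eL k, φ c = g) ∧
    ∀ d ∈ D, d ≠ 1 → ∃ h ∈ Subgroup.normalizer (D : Set G), h * s * h⁻¹ = d

namespace Frame

variable {s r : G} {Q Q' : Subgroup G} {sw e : Bool} {φ ψ : ℕ → G}

/-- Two mutually contained centres: codes, order of the joint centralizer, the common part. -/
theorem pair_codes (F : Frame s Q sw e φ) (F' : Frame r Q' sw e ψ) (hrQ : r ∈ Q) (hrs : r ≠ s) :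
    ∃ a ∈ rL, φ a = r ∧ ∃ b ∈ rL, ψ b = s ∧ cnt sw e b = cnt sw e a := by
  obtain ⟨a, ha, har⟩ := F.code_of_invol hrQ F'.ss F'.s_ne hrs
  have hsr : s ∈ Subgroup.centralizer ({r} : Set G) :=
    mem_L_iff.2 (F.s_comm (F.Q_le hrQ)).symm
  obtain ⟨b, hb, hbs⟩ := F'.surj s hsr
  have hcnt : cnt sw e b = cnt sw e a := by
    rw [← F.card_cent (rL_allL ha), ← F'.card_cent hb, har, hbs, inf_comm]
  have hb0 : b ≠ 0 := fun h => F.s_ne (by rw [← hbs, h, F'.map_zero])
  have hb96 : b ≠ 96 := fun h => hrs (by rw [← hbs, h, F'.map_s])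
  have hbb : mulC sw e b b = 0 := by
    refine F'.inj _ (mem_allL.2 (mulC_lt sw e b hb b hb)) _ zero_mem_allL ?_
    rw [← F'.mul b hb b hb, hbs, F.ss, F'.map_zero]
  refine ⟨a, ha, har, b, ?_, hbs, hcnt⟩
  cases hq : isQ b with
  | true => exact rL_of_isR sw e b (of_decide_eq_true ((isQ_iff b hb).symm.trans hq)) hb0 hb96 hbb
  | false =>
    exfalso
    have h1 := cnt_out sw e b hb hq (by simp [isI, hb0, hbb])
    rw [hcnt, (cnt_R sw e a ha).1] at h1
    cases sw <;> simp only [r32, Bool.false_or, Bool.true_or, if_true] at h1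
    · split_ifs at h1 <;> omega
    · omega

/-- The joint centralizer has order 32 and the common part of the two groups order at least 8. -/
theorem pair_card [Finite G] (F : Frame s Q sw e φ) (F' : Frame r Q' sw e ψ) {a b : ℕ}
    (ha : a ∈ rL) (har : φ a = r) (hb : b ∈ rL) (hbs : ψ b = s) (hrs : r ≠ s) :
    r32 sw a = true ∧ 8 ≤ Nat.card ↥(Q ⊓ Q') := by
  set C := Subgroup.centralizer ({s} : Set G) ⊓ Subgroup.centralizer ({r} : Set G)
  set A := Q ⊓ Subgroup.centralizer ({r} : Set G)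
  set B := Q' ⊓ Subgroup.centralizer ({s} : Set G)
  have hAC : A ≤ C := inf_le_inf_right _ F.Q_le
  have hBC : B ≤ C := fun g hg => ⟨hg.2, F'.Q_le hg.1⟩
  have hA : Nat.card A = 16 := by
    rw [show A = Q ⊓ Subgroup.centralizer ({φ a} : Set G) by rw [har],
      F.card_centQ (rL_allL ha), (cnt_R sw e a ha).2]
  have hB : Nat.card B = 16 := by
    rw [show B = Q' ⊓ Subgroup.centralizer ({ψ b} : Set G) by rw [hbs],
      F'.card_centQ (rL_allL hb), (cnt_R sw e b hb).2]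
  have hC : Nat.card C = cnt sw e a := by
    rw [← F.card_cent (rL_allL ha), har]
  have hAB : A ⊓ B = Q ⊓ Q' := le_antisymm (inf_le_inf inf_le_left inf_le_left)
    (fun g hg => ⟨⟨hg.1, F'.Q_le hg.2⟩, hg.2, F.Q_le hg.1⟩)
  have h32 : r32 sw a = true := by
    by_contra hne
    rw [(cnt_R sw e a ha).1, if_neg hne] at hC
    have e1 : A = C := Subgroup.eq_of_le_of_card_ge hAC (by omega)
    have e2 : B = C := Subgroup.eq_of_le_of_card_ge hBC (by omega)
    obtain ⟨x, hx, hxc, y, hy, hyc, hxy⟩ := exists_noncomm sw e a ha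
    refine hxy ((F.commute_iff (qL_allL hx) (qL_allL hy)).1 ?_)
    have mx : φ x ∈ A := ⟨(F.mem_Q x (qL_allL hx)).2 hx, mem_L_iff.2
      (har ▸ ((F.commute_iff (rL_allL ha) (qL_allL hx)).2 hxc).symm)⟩
    have my : φ y ∈ A := ⟨(F.mem_Q y (qL_allL hy)).2 hy, mem_L_iff.2
      (har ▸ ((F.commute_iff (rL_allL ha) (qL_allL hy)).2 hyc).symm)⟩
    have c1 := F.comm_cases mx.1 my.1
    have c2 := F'.comm_cases (show φ x ∈ B from e2 ▸ e1 ▸ mx).1 (show φ y ∈ B from e2 ▸ e1 ▸ my).1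
    rcases c1 with c1 | c1
    · exact c1
    · rcases c2 with c2 | c2
      · exact c2
      · exact absurd (mul_left_cancel (c1.symm.trans c2)) hrs.symm
  refine ⟨h32, ?_⟩
  rw [(cnt_R sw e a ha).1, if_pos h32] at hC
  have hAi : A.relIndex C = 2 := by
    have := Subgroup.card_mul_index (A.subgroupOf C)
    rw [Nat.card_congr (Subgroup.subgroupOfEquivOfLe hAC).toEquiv, hA, hC] at this
    show (A.subgroupOf C).index = 2
    omega
  have hBi : B.relIndex C = 2 := by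
    have := Subgroup.card_mul_index (B.subgroupOf C)
    rw [Nat.card_congr (Subgroup.subgroupOfEquivOfLe hBC).toEquiv, hB, hC] at this
    show (B.subgroupOf C).index = 2
    omega
  have hle : (A ⊓ B).relIndex C ≤ A.relIndex C * B.relIndex C := Subgroup.relIndex_inf_le
  have hABC : A ⊓ B ≤ C := inf_le_left.trans hAC
  have h := Subgroup.card_mul_index ((A ⊓ B).subgroupOf C)
  rw [Nat.card_congr (Subgroup.subgroupOfEquivOfLe hABC).toEquiv, hC] at h
  rw [hAi, hBi] at hle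
  change ((A ⊓ B).subgroupOf C).index ≤ 2 * 2 at hle
  rw [← hAB]
  have := Nat.mul_le_mul_left (Nat.card ↥(A ⊓ B)) hle
  omega

/-- The common part is elementary, and is generated by `s`, `r` and one further element. -/
theorem common_part [Finite G] (F : Frame s Q sw e φ) (F' : Frame r Q' sw e ψ) {a : ℕ}
    (ha : a ∈ rL) (har : φ a = r) (hrs : r ≠ s) (hsQ' : s ∈ Q')
    (h8 : 8 ≤ Nat.card ↥(Q ⊓ Q')) :
    ∃ f ∈ rL, isC sw e a f = true ∧ f ≠ a ∧ f ≠ mulC sw e a 96 ∧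
      (∀ g, g ∈ Q ⊓ Q' ↔ ∃ c ∈ qL, inD sw e a f c = true ∧ φ c = g) := by
  classical
  have hsq : ∀ g ∈ Q ⊓ Q', g * g = 1 := fun g hg => by
    rcases F.sq_cases hg.1 with h | h
    · exact h
    · rcases F'.sq_cases hg.2 with h' | h'
      · exact h'
      · exact absurd (h'.symm.trans h) hrs
  have hcomm : ∀ g ∈ Q ⊓ Q', ∀ g' ∈ Q ⊓ Q', Commute g g' := fun g hg g' hg' => by
    rcases F.comm_cases hg.1 hg'.1 with h | h
    · exact h
    · rcases F'.comm_cases hg.2 hg'.2 with h' | h'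
      · exact h'
      · exact absurd (mul_left_cancel (h'.symm.trans h)) hrs
  have haq := rL_qL ha
  have hrQ : r ∈ Q ⊓ Q' := ⟨har ▸ (F.mem_Q a (rL_allL ha)).2 haq, F'.s_mem⟩
  have hsD : s ∈ Q ⊓ Q' := ⟨F.s_mem, hsQ'⟩
  obtain ⟨g, hg, hgout⟩ : ∃ g ∈ Q ⊓ Q', g ∉ ({1, s, r, r * s} : Finset G) := by
    by_contra hno
    push_neg at hno
    have h1 : Nat.card ↥(Q ⊓ Q') ≤ Nat.card ↥({1, s, r, r * s} : Finset G) :=
      Nat.card_le_card_of_injective (fun g => ⟨g.1, hno g.1 g.2⟩)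
        (fun g g' h => Subtype.ext (by simpa using congrArg Subtype.val h))
    replace h1 := h1.trans_eq (Nat.card_eq_fintype_card.trans (Fintype.card_coe _))
    have h2 : ({1, s, r, r * s} : Finset G).card ≤ 4 :=
      (Finset.card_insert_le _ _).trans (Nat.succ_le_succ
        ((Finset.card_insert_le _ _).trans (Nat.succ_le_succ
          ((Finset.card_insert_le _ _).trans (by simp)))))
    omega
  simp only [Finset.mem_insert, Finset.mem_singleton, not_or] at hgout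
  obtain ⟨hg1, hgs, hgr, hgrs⟩ := hgout
  obtain ⟨f, hf, hfg⟩ := F.code_of_invol hg.1 (hsq g hg) hg1 hgs
  have hfa : f ≠ a := fun h => hgr (by rw [← hfg, h, har])
  have hfa' : f ≠ mulC sw e a 96 := fun h => hgrs (by
    rw [← hfg, h, ← F.mul a (rL_allL ha) _ s_mem_allL, har, F.map_s])
  have hc : isC sw e a f = true :=
    (F.commute_iff (rL_allL ha) (rL_allL hf)).1 (har.symm ▸ hfg.symm ▸ hcomm r hrQ g hg)
  refine ⟨f, hf, hc, hfa, hfa', fun y => ⟨fun hy => ?_, ?_⟩⟩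
  · obtain ⟨c, hcq, hcy⟩ := F.surj_Q hy.1
    refine ⟨c, hcq, inD_of_comm sw e a ha f hf hc hfa hfa' c hcq ?_ ?_ ?_, hcy⟩
    · refine F.inj _ (mem_allL.2 (mulC_lt sw e c (qL_allL hcq) c (qL_allL hcq))) _ zero_mem_allL ?_
      rw [← F.mul c (qL_allL hcq) c (qL_allL hcq), hcy, hsq y hy, F.map_zero]
    · exact (F.commute_iff (rL_allL ha) (qL_allL hcq)).1 (har.symm ▸ hcy.symm ▸ hcomm r hrQ y hy)
    · exact (F.commute_iff (rL_allL hf) (qL_allL hcq)).1 (hfg.symm ▸ hcy.symm ▸ hcomm g hg y hy)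
  · rintro ⟨c, -, hcD, rfl⟩
    have m : ∀ {u v : ℕ}, u ∈ allL → v ∈ allL → φ u ∈ Q ⊓ Q' → φ v ∈ Q ⊓ Q' →
        φ (mulC sw e u v) ∈ Q ⊓ Q' := fun hu hv h1 h2 => F.mul _ hu _ hv ▸ mul_mem h1 h2
    have mr : φ a ∈ Q ⊓ Q' := har ▸ hrQ
    have mf : φ f ∈ Q ⊓ Q' := hfg ▸ hg
    have ms : φ 96 ∈ Q ⊓ Q' := F.map_s ▸ hsD
    have haA := rL_allL ha
    have hfA := rL_allL hf
    have harf := mem_allL.2 (mulC_lt sw e a haA f hfA)
    simp only [inD, Bool.or_eq_true, beq_iff_eq] at hcD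
    rcases hcD with ((((((h | h) | h) | h) | h) | h) | h) | h <;> subst h
    · rw [F.map_zero]; exact one_mem _
    · exact ms
    · exact mr
    · exact m haA s_mem_allL mr ms
    · exact mf
    · exact m hfA s_mem_allL mf ms
    · exact m haA hfA mr mf
    · exact m harf s_mem_allL (m haA hfA mr mf) ms

/-- A homogeneous common part is normal in `C(s)` and fused to it. -/
theorem fused_of_homogeneous [Finite G] (F : Frame s Q sw e φ) (F' : Frame r Q' sw e ψ) {a b f : ℕ}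
    (ha : a ∈ rL) (har : φ a = r) (hb : b ∈ rL) (hbs : ψ b = s) (h32 : r32 sw a = true)
    (hf : f ∈ rL) (hfa : f ≠ a) (hfa' : f ≠ mulC sw e a 96) (hk : kIx f = kIx a)
    (hD : ∀ g, g ∈ Q ⊓ Q' ↔ ∃ c ∈ qL, inD sw e a f c = true ∧ φ c = g) :
    Fused s sw φ (kIx a) ∧
      Subgroup.centralizer ({s} : Set G) ≤ Subgroup.normalizer ((Q ⊓ Q' : Subgroup G) : Set G) ∧
      ∃ h ∈ Subgroup.normalizer ((Q ⊓ Q' : Subgroup G) : Set G), h * s * h⁻¹ = r := by
  have hkr : kIx a ∈ List.range 3 := kIx_lt a (rL_allL ha)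
  have hD' : ∀ g, g ∈ Q ⊓ Q' ↔ ∃ c ∈ eL (kIx a), φ c = g := fun g => by
    rw [hD]
    exact ⟨fun ⟨c, hc, h1, h2⟩ => ⟨c, inD_le sw e a ha f hf hk hfa hfa' c hc h1, h2⟩,
      fun ⟨c, hc, h2⟩ => ⟨c, eL_qL hkr hc, inD_eq sw e a ha f hf hk hfa hfa' c hc, h2⟩⟩
  have hL : Subgroup.centralizer ({s} : Set G) ≤
      Subgroup.normalizer ((Q ⊓ Q' : Subgroup G) : Set G) := by
    intro g hg
    rw [Subgroup.mem_normalizer_iff]
    intro y
    obtain ⟨c, hc, rfl⟩ := F.surj g hg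
    have key : ∀ {c : ℕ}, c ∈ allL → ∀ y ∈ Q ⊓ Q', φ c * y * (φ c)⁻¹ ∈ Q ⊓ Q' := by
      intro c hc y hy
      obtain ⟨d, hd, rfl⟩ := (hD' y).1 hy
      rw [F.map_conj hc (eL_allL hkr hd), hD']
      exact ⟨_, inE_normal sw e (kIx a) hkr h32 d hd c hc, rfl⟩
    refine ⟨key hc y, fun hy => ?_⟩
    obtain ⟨c', hc', e1⟩ := F.surj (φ c)⁻¹ (inv_mem (F.mem c hc))
    have h := key hc' _ hy
    rw [e1, inv_inv, show (φ c)⁻¹ * (φ c * y * (φ c)⁻¹) * φ c = y by group] at h
    exact h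
  -- an element of `Q'` moving `s`
  obtain ⟨q, hq, hqs⟩ := exists_moving sw e b hb
  have hqN : ψ q ∈ Subgroup.normalizer ((Q ⊓ Q' : Subgroup G) : Set G) := by
    have key : ∀ q' ∈ Q', ∀ y ∈ Q ⊓ Q', q' * y * q'⁻¹ ∈ Q ⊓ Q' := fun q' hq' y hy => by
      rcases F'.comm_cases hq' hy.2 with h | h
      · rw [h, mul_inv_cancel_right]; exact hy
      · rw [h, show y * q' * r * q'⁻¹ = y * (q' * r * q'⁻¹) by group,
          (F'.s_comm (F'.Q_le hq')).eq, mul_inv_cancel_right]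
        exact mul_mem hy ⟨har ▸ (F.mem_Q a (rL_allL ha)).2 (rL_qL ha), F'.s_mem⟩
    rw [Subgroup.mem_normalizer_iff]
    intro y
    have hq' := (F'.mem_Q q (qL_allL hq)).2 hq
    refine ⟨key _ hq' y, fun hy => ?_⟩
    have h := key _ (inv_mem hq') _ hy
    rwa [inv_inv, show (ψ q)⁻¹ * (ψ q * y * (ψ q)⁻¹) * ψ q = y by group] at h
  have hmove : ψ q * s * (ψ q)⁻¹ = φ (mulC sw e a 96) := by
    rw [← F.mul a (rL_allL ha) 96 s_mem_allL, har, F.map_s, ← hbs,
      F'.map_conj (qL_allL hq) (rL_allL hb), hqs, ← F'.mul b (rL_allL hb) 96 s_mem_allL, F'.map_s,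
      hbs]
    exact F.s_comm (har ▸ F.mem a (rL_allL ha)) |>.symm.eq
  have htrans : ∀ d ∈ Q ⊓ Q', d ≠ 1 →
      ∃ h ∈ Subgroup.normalizer ((Q ⊓ Q' : Subgroup G) : Set G), h * s * h⁻¹ = d := by
    intro d hd hd1
    obtain ⟨c, hc, rfl⟩ := (hD' d).1 hd
    obtain ⟨-, hc'⟩ := eL_spec (kIx a) hkr c hc
    rcases hc' with rfl | rfl | ⟨hcr, hck⟩
    · exact absurd F.map_zero hd1
    · exact ⟨1, one_mem _, by rw [one_mul, inv_one, mul_one, F.map_s]⟩
    · obtain ⟨-, h96, hk96⟩ := rL_sq sw e a ha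
      have h32' : r32 sw (mulC sw e a 96) = true := by
        unfold r32 at h32 ⊢; rw [hk96]; exact h32
      obtain ⟨l, hl, hlc⟩ := inE_trans sw e _ h96 h32' c (by rw [hk96]; exact hc)
        (fun h => hd1 (by rw [h, F.map_zero])) (rL_spec c hcr).2.2.2.1
      refine ⟨φ l * ψ q, mul_mem (hL (F.mem l hl)) hqN, ?_⟩
      rw [show φ l * ψ q * s * (φ l * ψ q)⁻¹ = φ l * (ψ q * s * (ψ q)⁻¹) * (φ l)⁻¹ by group, hmove,
        F.map_conj hl (rL_allL h96), hlc]
  refine ⟨⟨hkr, h32, Q ⊓ Q', hD', htrans⟩, hL, htrans r ?_ F'.s_ne⟩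
  exact ⟨har ▸ (F.mem_Q a (rL_allL ha)).2 (rL_qL ha), F'.s_mem⟩

/-- A conjugate of `s` in `Q` gives a fused invariant subgroup, or the table is that of `M₁₂`. -/
theorem fused_or [Finite G] (F : Frame s Q sw e φ) (g : G) (hgQ : g * s * g⁻¹ ∈ Q)
    (hgs : g * s * g⁻¹ ≠ s) :
    (∃ a ∈ rL, φ a = g * s * g⁻¹ ∧ Fused s sw φ (kIx a)) ∨ (sw = false ∧ e = false) := by
  set r := g * s * g⁻¹ with hr
  have F' := F.conj g
  set Q' := Q.map (MulAut.conj g).toMonoidHom with hQ'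
  rw [← hr] at F'
  generalize (fun c => g * φ c * g⁻¹) = ψ at F'
  obtain ⟨a, ha, har, b, hb, hbs, hcnt⟩ := F.pair_codes F' hgQ hgs
  have hsQ' : s ∈ Q' := hbs ▸ (F'.mem_Q b (rL_allL hb)).2 (rL_qL hb)
  obtain ⟨h32, h8⟩ := F.pair_card F' ha har hb hbs hgs
  obtain ⟨f, hf, hfc, hfa, hfa', hD⟩ := F.common_part F' ha har hgs hsQ' h8
  by_cases hk : kIx f = kIx a
  · exact Or.inl ⟨a, ha, har, (F.fused_of_homogeneous F' ha har hb hbs h32 hf hfa hfa' hk hD).1⟩
  right
  obtain ⟨h32b, h8b⟩ := F'.pair_card F hb hbs ha har (Ne.symm hgs)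
  obtain ⟨f', hf', hfc', hfb, hfb', hD2⟩ :=
    F'.common_part F hb hbs (Ne.symm hgs) hgQ h8b
  have hk' : kIx f' ≠ kIx b := by
    intro hk'
    obtain ⟨-, hLr, h, hh, hhs⟩ :=
      F'.fused_of_homogeneous F hb hbs ha har h32b hf' hfb hfb' hk' hD2
    rw [inf_comm] at hLr hh
    -- then `C(s)` normalises the common part
    have hL : Subgroup.centralizer ({s} : Set G) ≤
        Subgroup.normalizer ((Q ⊓ Q' : Subgroup G) : Set G) := fun y hy => by
      have h1 : h⁻¹ * y * h ∈ Subgroup.centralizer ({r} : Set G) := by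
        rw [mem_L_iff]
        show _ = _
        have hc := (F.s_comm hy).eq
        rw [← hhs] at hc
        calc h⁻¹ * y * h * r = h⁻¹ * (y * (h * r * h⁻¹)) * h := by group
          _ = h⁻¹ * (h * r * h⁻¹ * y) * h := by rw [hc]
          _ = r * (h⁻¹ * y * h) := by group
      have h2 := mul_mem (mul_mem hh (hLr h1)) (inv_mem hh)
      rwa [show h * (h⁻¹ * y * h) * h⁻¹ = y by group] at h2
    obtain ⟨l, hl, hout⟩ := inD_mixed sw e a ha h32 f hf hfc hk
    have hmem : φ l * r * (φ l)⁻¹ ∈ Q ⊓ Q' := by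
      have h3 := (Subgroup.mem_normalizer_iff.1 (hL (F.mem l hl)) r).1 ⟨hgQ, F'.s_mem⟩
      exact h3
    obtain ⟨c, hc, hcD, hcφ⟩ := (hD _).1 hmem
    rw [← har, F.map_conj hl (rL_allL ha)] at hcφ
    exact hout (F.inj c (qL_allL hc) _ (Frame.conjC_mem sw e hl (rL_allL ha)) hcφ ▸ hcD)
  constructor
  · -- the exchanging tables
    by_contra hsw
    rw [Bool.not_eq_false] at hsw
    subst hsw
    obtain ⟨y, hy, hyc, hyf⟩ := exists_translation true e b hb f' hf' hfc' hfb hfb'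
    have hd : ψ f' ∈ Q' ⊓ Q :=
      (hD2 _).2 ⟨f', rL_qL hf', by simp [inD], rfl⟩
    obtain ⟨c, hc, hcD, hcf⟩ := (hD (ψ f')).1 ⟨hd.2, hd.1⟩
    have hyL : ψ y ∈ Subgroup.centralizer ({s} : Set G) :=
      mem_L_iff.2 (hbs ▸ ((F'.commute_iff (rL_allL hb) (qL_allL hy)).2 hyc).symm)
    obtain ⟨y', hy', hyy⟩ := F.surj _ hyL
    have hy'c : isC true e a y' = true := (F.commute_iff (rL_allL ha) hy').1
      (by rw [har, hyy]; exact (F'.s_comm (F'.mem y (qL_allL hy))).symm)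
    have hne : ∀ z ∈ ([a, mulC true e a 96, 0, 96] : List ℕ), c ≠ z := by
      intro z hz hcz
      have : ψ f' = φ z := by rw [← hcf, hcz]
      simp only [List.mem_cons, List.not_mem_nil, or_false] at hz
      have hbA := rL_allL hb
      have hfA := rL_allL hf'
      rcases hz with rfl | rfl | rfl | rfl
      · rw [har, ← F'.map_s] at this
        exact (rL_spec f' hf').2.2.2.1 (F'.inj f' hfA 96 s_mem_allL this)
      · rw [← F.mul a (rL_allL ha) 96 s_mem_allL, har, F.map_s, ← hbs, ← F'.map_s,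
          F'.mul 96 s_mem_allL b hbA, ← (s_central true e b hbA).1] at this
        exact hfb' (F'.inj f' hfA _ (mem_allL.2 (mulC_lt true e b hbA 96 s_mem_allL)) this)
      · rw [F.map_zero, ← F'.map_zero] at this
        exact (rL_spec f' hf').2.2.1 (F'.inj f' hfA 0 zero_mem_allL this)
      · rw [F.map_s, ← hbs] at this
        exact hfb (F'.inj f' hfA b hbA this)
    have hck : c ∈ rL ∧ kIx c ≠ kIx a ∧ isC true e a c = true := by
      have hcr : c ∈ rL := rL_of_isR true e c hc (hne 0 (by simp)) (hne 96 (by simp)) (by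
        refine F.inj _ (mem_allL.2 (mulC_lt true e c (qL_allL hc) c (qL_allL hc))) _ zero_mem_allL ?_
        rw [← F.mul c (qL_allL hc) c (qL_allL hc), hcf, F'.mul f' (rL_allL hf') f' (rL_allL hf'),
          (rL_sq true e f' hf').1, F'.map_zero, F.map_zero])
      refine ⟨hcr, fun hkc => ?_, (F.commute_iff (rL_allL ha) (qL_allL hc)).1 ?_⟩
      · obtain ⟨c0, hc0, hmiss⟩ := mixed_miss true e a ha f hf hk
        -- the homogeneous element would generate the whole invariant subgroup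
        have hin := inD_eq true e a ha c hcr hkc (hne a (by simp)) (hne _ (by simp)) c0 hc0
        refine hmiss ?_
        have hkr : kIx a ∈ List.range 3 := kIx_lt a (rL_allL ha)
        have hmem : φ c0 ∈ Q ⊓ Q' := by
          have m : ∀ {u v : ℕ}, u ∈ allL → v ∈ allL → φ u ∈ Q ⊓ Q' → φ v ∈ Q ⊓ Q' →
              φ (mulC true e u v) ∈ Q ⊓ Q' := fun hu hv h1 h2 => F.mul _ hu _ hv ▸ mul_mem h1 h2
          have mr : φ a ∈ Q ⊓ Q' := by rw [har]; exact ⟨hgQ, F'.s_mem⟩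
          have mf : φ c ∈ Q ⊓ Q' := hcf.symm ▸ ⟨hd.2, hd.1⟩
          have ms : φ 96 ∈ Q ⊓ Q' := F.map_s.symm ▸ ⟨F.s_mem, hsQ'⟩
          have haA := rL_allL ha
          have hcA := qL_allL hc
          simp only [inD, Bool.or_eq_true, beq_iff_eq] at hin
          rcases hin with ((((((h | h) | h) | h) | h) | h) | h) | h <;> rw [h]
          · rw [F.map_zero]; exact one_mem _
          · exact ms
          · exact mr
          · exact m haA s_mem_allL mr ms
          · exact mf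
          · exact m hcA s_mem_allL mf ms
          · exact m haA hcA mr mf
          · exact m (mem_allL.2 (mulC_lt true e a haA c hcA)) s_mem_allL (m haA hcA mr mf) ms
        obtain ⟨c1, hc1, hin1, hc01⟩ := (hD _).1 hmem
        rwa [← F.inj c1 (qL_allL hc1) c0 (eL_allL hkr hc0) hc01]
      · rw [har, hcf]
        exact (F'.s_comm (F'.mem f' (rL_allL hf'))).symm
    have h5 := swap_translation e a ha c hck.1 hck.2.2 hck.2.1 y' hy' hy'c
    have h6 : φ (conjC true e y' c) = φ c * r := by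
      rw [← F.map_conj hy' (qL_allL hc), hyy, hcf,
        F'.map_conj (qL_allL hy) (rL_allL hf'), hyf, ← F'.mul f' (rL_allL hf') 96 s_mem_allL,
        F'.map_s]
    rcases h5 with h5 | h5 <;> rw [h5] at h6
    · exact F'.s_ne (by simpa using h6.symm)
    · rw [← F.mul c (qL_allL hc) 96 s_mem_allL, F.map_s] at h6
      exact hgs (mul_left_cancel h6).symm
  · -- no involution outside `Q` if `t` has order four
    by_contra he
    rw [Bool.not_eq_false] at he
    subst he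
    obtain ⟨c0, hc0, hmiss⟩ := mixed_miss sw true b hb f' hf' hk'
    have hkb : kIx b ∈ List.range 3 := kIx_lt b (rL_allL hb)
    have h1 : φ 96 = s := F.map_s
    have hbE : b ∈ eL (kIx b) := (rL_spec b hb).2.2.2.2
    obtain ⟨-, hcb, hc00⟩ := eL_elem sw true _ hkb c0 hc0 b hbE
    have hmemL : ψ c0 ∈ Subgroup.centralizer ({s} : Set G) := by
      rw [mem_L_iff, ← hbs]
      exact (F'.commute_iff (eL_allL hkb hc0) (rL_allL hb)).2 (by simp [isC, hcb])
    obtain ⟨c1, hc1, hc1e⟩ := F.surj _ hmemL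
    have hc1Q : ψ c0 ∈ Q := by
      rw [← hc1e]
      refine (F.mem_Q c1 hc1).2 ?_
      by_cases h0 : c1 = 0
      · subst h0; decide
      have h2 : mulC sw true c1 c1 = 0 := by
        refine F.inj _ (mem_allL.2 (mulC_lt sw true c1 hc1 c1 hc1)) _ zero_mem_allL ?_
        rw [← F.mul c1 hc1 c1 hc1, hc1e, F'.mul c0 (eL_allL hkb hc0) c0 (eL_allL hkb hc0), hc00,
          F'.map_zero, F.map_zero]
      exact of_decide_eq_true ((isQ_iff c1 hc1).symm.trans
        (minus_invol sw c1 hc1 (by simp [isI, h0, h2])))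
    obtain ⟨c2, hc2, hin2, hc2e⟩ :=
      (hD2 _).1 ⟨(F'.mem_Q c0 (eL_allL hkb hc0)).2 (eL_qL hkb hc0), hc1Q⟩
    exact hmiss (F'.inj c2 (qL_allL hc2) c0 (eL_allL hkb hc0) hc2e ▸ hin2)

/-- The table of a fused invariant subgroup has involutions outside `Q`. -/
theorem Fused.plus (F : Frame s Q sw e φ) {k : ℕ} (hk : Fused s sw φ k) : e = false := by
  by_contra he
  rw [Bool.not_eq_false] at he
  subst he
  obtain ⟨hk3, h32, D, hD, htr⟩ := hk
  obtain ⟨u, hu, -, ⟨d, hd, hd0, hd96, hdu⟩, ⟨f, hf, hfu⟩⟩ := exists_elation sw true k hk3 h32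
  have hdA := eL_allL hk3 hd
  have hfA := eL_allL hk3 hf
  have hdD : φ d ∈ D := (hD _).2 ⟨d, hd, rfl⟩
  have hfD : φ f ∈ D := (hD _).2 ⟨f, hf, rfl⟩
  have hd1 : φ d ≠ 1 := fun h => hd0 (F.inj d hdA 0 zero_mem_allL (h.trans F.map_zero.symm))
  obtain ⟨h, hh, hhs⟩ := htr _ hdD hd1
  -- the conjugate of `u` under `h⁻¹` lies in `C(s)`
  set v := h⁻¹ * φ u * h with hv
  have hvL : v ∈ Subgroup.centralizer ({s} : Set G) := by
    rw [mem_L_iff]
    show _ = _
    have hc : φ u * (h * s * h⁻¹) = h * s * h⁻¹ * φ u := by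
      rw [hhs]; exact (F.commute_iff (rL_allL hu) hdA).2 hdu
    calc v * s = h⁻¹ * (φ u * (h * s * h⁻¹)) * h := by rw [hv]; group
      _ = h⁻¹ * (h * s * h⁻¹ * φ u) * h := by rw [hc]
      _ = s * v := by rw [hv]; group
  obtain ⟨c, hc, hcv⟩ := F.surj v hvL
  have hu1 : φ u ≠ 1 := fun h' => (rL_spec u hu).2.2.1
    (F.inj u (rL_allL hu) 0 zero_mem_allL (h'.trans F.map_zero.symm))
  have hc0 : c ≠ 0 := fun h0 => hu1 (by
    rw [h0, F.map_zero, hv] at hcv
    calc φ u = h * (h⁻¹ * φ u * h) * h⁻¹ := by group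
      _ = 1 := by rw [← hcv]; group)
  have hcc : mulC sw true c c = 0 := by
    refine F.inj _ (mem_allL.2 (mulC_lt sw true c hc c hc)) _ zero_mem_allL ?_
    rw [← F.mul c hc c hc, hcv, hv, show h⁻¹ * φ u * h * (h⁻¹ * φ u * h) = h⁻¹ * (φ u * φ u) * h by
      group, F.mul u (rL_allL hu) u (rL_allL hu), (rL_sq sw true u hu).1, F.map_zero]
    group
  have hcQ := minus_invol sw c hc (by simp [isI, hc0, hcc])
  have hvQ : v ∈ Q := hcv ▸ (F.mem_Q c hc).2 (of_decide_eq_true ((isQ_iff c hc).symm.trans hcQ))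
  -- but it moves an element of `D` by an element other than `s`
  set y := h⁻¹ * φ f * h with hy
  have hyD : y ∈ D := by
    have := (Subgroup.mem_normalizer_iff.1 hh y).2
    refine this ?_
    rw [hy, show h * (h⁻¹ * φ f * h) * h⁻¹ = φ f by group]
    exact hfD
  obtain ⟨cy, hcy, hcy'⟩ := (hD y).1 hyD
  have hyQ : y ∈ Q := hcy' ▸ (F.mem_Q cy (eL_allL hk3 hcy)).2 (eL_qL hk3 hcy)
  have huf : φ u * φ f * (φ u)⁻¹ = φ f * s := by
    rw [F.map_conj (rL_allL hu) hfA, hfu, ← F.mul f hfA 96 s_mem_allL, F.map_s]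
  have hmove : v * y = y * v * (h⁻¹ * s * h) := by
    have h2 : φ u * φ f = φ f * s * φ u := by rw [← huf, inv_mul_cancel_right]
    have h3 : s * φ u = φ u * s := (F.s_comm (F.mem u (rL_allL hu))).symm.eq
    rw [hv, hy, show h⁻¹ * φ u * h * (h⁻¹ * φ f * h) = h⁻¹ * (φ u * φ f) * h by group, h2,
      mul_assoc (φ f), h3]
    group
  rcases F.comm_cases hvQ hyQ with h2 | h2 <;> rw [hmove] at h2
  · have : h⁻¹ * s * h = 1 := by simpa using h2
    exact F.s_ne (by simpa using congrArg (fun g => h * g * h⁻¹) this |>.trans (by group) |> fun e =>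
      (show h * (h⁻¹ * s * h) * h⁻¹ = s by group).symm.trans e)
  · have h3 : h⁻¹ * s * h = s := mul_left_cancel h2
    have h4 : h * s * h⁻¹ = s := by
      calc h * s * h⁻¹ = h * (h⁻¹ * s * h) * h⁻¹ := by rw [h3]
        _ = s := by group
    exact hd96 (F.inj d hdA 96 s_mem_allL (by rw [F.map_s, ← hhs, h4]))

end Frame

end H55.SThree
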