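import Mathlib.Data.Fin.Basic
import Mathlib.Data.List.Range
import Mathlib.Tactic.Basic

/-!
Coordinates for an extension `Q.S₃`, `Q ≅ Q₈ ∘ Q₈`, an element of order three acting fixed point
freely on `Q / Z(Q)`.

The code `((((z*4+u)*4+v)*3+n)*2+b)` stands for `s^z U V x^n t^b`; `U`, `V` are the units `1,i,j,k`
of the two quaternion factors, `x : i ↦ j ↦ k` on both, `t : i ↦ -i, j ↦ -k, k ↦ -j`, followed by
the exchange of the factors if `sw`; `t * t = s` if `e`, and `1` otherwise.
-/

set_option autoImplicit false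

namespace H55.SThree

/-- First coordinate. -/
def cZ (c : ℕ) : ℕ := c / 96
/-- Second coordinate. -/
def cU (c : ℕ) : ℕ := c / 24 % 4
/-- Third coordinate. -/
def cV (c : ℕ) : ℕ := c / 6 % 4
/-- Fourth coordinate. -/
def cN (c : ℕ) : ℕ := c / 2 % 3
/-- Fifth coordinate. -/
def cB (c : ℕ) : ℕ := c % 2

/-- The code of given coordinates. -/
def enc (z u v n b : ℕ) : ℕ := ((((z * 4 + u) * 4 + v) * 3 + n) * 2 + b)

/-- The rotation `0, 2, 3, 1` of the units. -/
def rot (u : ℕ) : ℕ := (120 >>> (2 * u)) &&& 3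
/-- Iterated rotation. -/
def rotN (n u : ℕ) : ℕ := if n = 0 then u else if n = 1 then rot u else rot (rot u)
/-- The reflection `0, 1, 3, 2` of the units. -/
def refl' (u : ℕ) : ℕ := (180 >>> (2 * u)) &&& 3
/-- Sign of the product of two units. -/
def sgnT (u v : ℕ) : ℕ := (50848 >>> (4 * u + v)) &&& 1
/-- `1` for a nonzero argument. -/
def nz (u : ℕ) : ℕ := if u = 0 then 0 else 1

/-- First coordinate of the conjugate of `s^z U V` by `t^b`. -/
def actZ (b z u v : ℕ) : ℕ := if b = 1 then (z + nz u + nz v) % 2 else z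
/-- Second coordinate of the conjugate of `s^z U V` by `x^n t^b`. -/
def actU (sw : Bool) (n b u v : ℕ) : ℕ :=
  rotN n (if b = 1 then (if sw then refl' v else refl' u) else u)
/-- Third coordinate of the conjugate of `s^z U V` by `x^n t^b`. -/
def actV (sw : Bool) (n b u v : ℕ) : ℕ :=
  rotN n (if b = 1 then (if sw then refl' u else refl' v) else v)

/-- The product of two codes. -/
def mulC (sw e : Bool) (c d : ℕ) : ℕ :=
  let u' := actU sw (cN c) (cB c) (cU d) (cV d)
  let v' := actV sw (cN c) (cB c) (cU d) (cV d)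
  enc ((cZ c + actZ (cB c) (cZ d) (cU d) (cV d) + sgnT (cU c) u' + sgnT (cV c) v' +
      (if e then cB c * cB d else 0)) % 2)
    (cU c ^^^ u') (cV c ^^^ v')
    ((cN c + (if cB c = 1 then 3 - cN d else cN d)) % 3) ((cB c + cB d) % 2)

/-- The inverse of a code. -/
def invC (sw e : Bool) (c : ℕ) : ℕ :=
  mulC sw e (mulC sw e (enc (if e then cB c else 0) 0 0 0 (cB c)) (enc 0 0 0 ((3 - cN c) % 3) 0))
    (enc ((cZ c + nz (cU c) + nz (cV c)) % 2) (cU c) (cV c) 0 0)

/-- Conjugation. -/
def conjC (sw e : Bool) (g c : ℕ) : ℕ := mulC sw e (mulC sw e g c) (invC sw e g)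

/-- The codes in `Q`. -/
def isQ (c : ℕ) : Bool := c % 6 == 0
/-- The involution codes. -/
def isI (sw e : Bool) (c : ℕ) : Bool := c != 0 && mulC sw e c c == 0
/-- Commuting codes. -/
def isC (sw e : Bool) (c d : ℕ) : Bool := mulC sw e c d == mulC sw e d c
/-- Noncentral involutions of `Q`. -/
def isR (sw e : Bool) (c : ℕ) : Bool := isQ c && isI sw e c && c != 96
/-- Order of the centralizer. -/
def cnt (sw e : Bool) (c : ℕ) : ℕ := ((List.range 192).filter fun d => isC sw e c d).length
/-- Number of elements of `Q` commuting with a code. -/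
def cntQ (sw e : Bool) (c : ℕ) : ℕ :=
  ((List.range 192).filter fun d => isQ d && isC sw e c d).length
/-- The index of the singular line of a noncentral involution of `Q`. -/
def kIx (c : ℕ) : ℕ := (cV c + 3 - cU c) % 3
/-- The members of the `k`-th elementary subgroup of order eight normalised by `x`. -/
def inE (k c : ℕ) : Bool :=
  c == 0 || c == 96 || (isQ c && cU c != 0 && cV c != 0 && kIx c == k)
/-- The members of the subgroup generated by `s, r, f`. -/
def inD (sw e : Bool) (r f c : ℕ) : Bool :=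
  c == 0 || c == 96 || c == r || c == mulC sw e r 96 || c == f || c == mulC sw e f 96 ||
    c == mulC sw e r f || c == mulC sw e (mulC sw e r f) 96

/-- The noncentral involutions of `Q`. -/
def rL : List ℕ :=
  [30, 36, 42, 54, 60, 66, 78, 84, 90, 126, 132, 138, 150, 156, 162, 174, 180, 186]
/-- The elementary subgroups of order eight normalised by `x`. -/
def eL (k : ℕ) : List ℕ :=
  if k = 0 then [0, 30, 60, 90, 96, 126, 156, 186]
  else if k = 1 then [0, 36, 66, 78, 96, 132, 162, 174]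
  else [0, 42, 54, 84, 96, 138, 150, 180]
/-- The codes in `Q`. -/
def qL : List ℕ := (List.range 32).map (6 * ·)
/-- The noncentral involutions of `Q` centralised by a Sylow subgroup of `L` up to index two. -/
def r32 (sw : Bool) (c : ℕ) : Bool := sw || kIx c == 0
/-- All codes. -/
def allL : List ℕ := List.range 192

theorem mem_allL {c : ℕ} : c ∈ allL ↔ c < 192 := List.mem_range

theorem mulC_lt : ∀ sw e : Bool, ∀ c ∈ allL, ∀ d ∈ allL, mulC sw e c d < 192 := by decide +kernel

theorem invC_spec : ∀ sw e : Bool, ∀ c ∈ allL,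
    invC sw e c < 192 ∧ mulC sw e c (invC sw e c) = 0 := by decide +kernel

theorem isQ_iff : ∀ c ∈ allL, isQ c = decide (c ∈ qL) := by decide +kernel

theorem isR_iff : ∀ sw e : Bool, ∀ c ∈ allL, isR sw e c = decide (c ∈ rL) := by decide +kernel

theorem inE_iff : ∀ k ∈ List.range 3, ∀ c ∈ allL, inE k c = decide (c ∈ eL k) := by decide +kernel

theorem kIx_lt : ∀ c ∈ allL, kIx c ∈ List.range 3 := by decide +kernel

theorem rL_spec : ∀ c ∈ rL, c ∈ allL ∧ c ∈ qL ∧ c ≠ 0 ∧ c ≠ 96 ∧ c ∈ eL (kIx c) := by decide +kernel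

theorem eL_spec : ∀ k ∈ List.range 3, ∀ c ∈ eL k,
    c ∈ qL ∧ (c = 0 ∨ c = 96 ∨ (c ∈ rL ∧ kIx c = k)) := by decide +kernel

theorem enc_coord : ∀ c ∈ allL, enc (cZ c) (cU c) (cV c) (cN c) (cB c) = c ∧
    cZ c < 2 ∧ cU c < 4 ∧ cV c < 4 ∧ cN c < 3 ∧ cB c < 2 := by decide +kernel

theorem coord_enc : ∀ z ∈ List.range 2, ∀ u ∈ List.range 4, ∀ v ∈ List.range 4,
    ∀ n ∈ List.range 3, ∀ b ∈ List.range 2,
    enc z u v n b < 192 ∧ cZ (enc z u v n b) = z ∧ cU (enc z u v n b) = u ∧
    cV (enc z u v n b) = v ∧ cN (enc z u v n b) = n ∧ cB (enc z u v n b) = b := by decide +kernel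

end H55.SThree
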