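import Cfsg.Agent.H55.SThree.ModelDef

/-! Symmetries of the exchanging table, stored as lists of bytes. -/

set_option autoImplicit false

namespace H55.SThree

/-- Byte list of the symmetry carrying index `0` to `m` and exchanging the outer classes if `o`. -/
def autN (m : ℕ) (o : Bool) : ℕ :=
  if m = 0 then (if o then 901453249094732243769841861299230878467933363187933399983924576276581756943613713195695657644195496889685933053239300707116592531129417680862746180458402566032694986686132275489029244815729420281798753101197842471195895640348108365887728129309671778822770593562198711972763626312372091820836950107080803286629443888388061455264434609193598847701943194136518402898858069039587391926424834631605508545390396063626681060091036317961307200582883398833490429762232576
    else 1805334201318907064811192982223192847475755193683290868033293215325452828214845199571577759612031561840153879648480066796481157415097753620352380861016938887603814587336820022860155213334916732955303843024817939606093467499718878605268420593488401650911634214294928640368818797840275625656826384769716785949044810759417195396622016385249041167741522254505454704008278009383715864728634018333309896843283424886690031404704924828719042596492440579593581074934006016)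
  else if m = 1 then (if o then 655769461638098140638882216196084357611236713549835417729323647595162866077853172177131262957964430956988565641212417250804257683504107296202405868940418195368709518588970737423149668485114145445852763830392449673750946492334774735431525914449381530414394823197314177230717848515425276356366338079763159938300018001401937902012061638237419206410181699973548838670892151374949088920361588773881997105011560826932396055138185871168150542329375000659733445133624576
    else 1559650413862272961680233337120046326619058544045192885778692286644033937349084658553013364925800495907456512236453183340168822567472443235692040549498954516939829119239658484794275637004301458119357853754012546808648518351705544974812218378628111402503258443930044105626773020043328810192355772742399142600715384872431071843369643414292861526449760760342485139780312091719077561722570772475586385402904589649995746399752074381925885938238932181419824090305398016)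
  else (if o then 410086536163209483077076716975574980393851731696932565948117281783080357906389479540800810893089704908451099680120632571488090930307742394504512710803620803616728813612887054087451690327459778747734665019370148604232178152827427534722648773795155695913157684871894993709179361928110661742702679940141421500478729016010078158980494055649676289947352525502658410004996546255388557835198983959097242366122121100267995301383179613234553219928200599882933776374981376
    else 1313967488387384304118427837899536949401673562192290033997485920831951429177620965916682912860925769858919046275361398660852655814276078333994147391362157125187848414263574801458577658846647091421239754942990245739129750012198197774103341237973885568002021305604624922105234533456014195578692114602777404162894095887039212100338075831705118609986931585871594711114416486599517030637408167660801630664015149923331345645997068123992288615837757780643024421546754816)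

/-- The symmetry. -/
def autC (m : ℕ) (o : Bool) (c : ℕ) : ℕ := (autN m o >>> (8 * c)) &&& 255

end H55.SThree
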