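import Cfsg.Agent.H55.SThree.Frame
import Mathlib.Data.Finset.Card
import Mathlib.Data.Set.Card
import Mathlib.Data.Fintype.Prod

/-!
The coordinates of `C(s)`: choice of two commuting triples adapted to the inverting element.
-/

set_option autoImplicit false

namespace H55.SThree

variable {G : Type*} [Group G]

theorem nz_zero : nz 0 = 0 := rfl

theorem sgn_cases : ∀ u < 4, sgnT u u = nz u ∧ rot u < 4 ∧ refl' u < 4 := by decide

theorem actions_lt : ∀ sw : Bool, ∀ n < 3, ∀ b < 2, ∀ u < 4, ∀ v < 4,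
    actU sw n b u v < 4 ∧ actV sw n b u v < 4 := by decide

namespace Raw

variable {s x t : G} {Q : Subgroup G}

theorem triple_conj (h : Raw s Q x t) {i : G} (T : Triple s x i) :
    Triple s x (x * i * x⁻¹) := by
  have hxs : x * s * x⁻¹ = s := by rw [h.xs, mul_inv_cancel_right]
  refine ⟨T.sq_j h.xs, T.sj h.xs, ?_, ?_⟩
  · rw [← conj_mul' x (x * i * x⁻¹) i, T.anti, conj_mul' x (i * (x * i * x⁻¹)) s,
      conj_mul' x i (x * i * x⁻¹), hxs]
  · have e1 := T.x_unit h.x3 3 (by omega)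
    have e2 := T.unit_mul h.xs h.ss 2 3 (by omega) (by omega)
    rw [show rot 3 = 1 from rfl, unit'_one, unit'_three, ← T.cyc] at e1
    rw [show sgnT 2 3 = 0 from rfl, show (2 : ℕ) ^^^ 3 = 1 from rfl, pow_zero, one_mul, unit'_one,
      unit'_two, unit'_three, ← T.cyc] at e2
    rw [e1, e2]

theorem exists_order_four (h : Raw s Q x t) : ∃ q ∈ Q, q * q = s := by
  by_contra hno
  push_neg at hno
  have h1 : ∀ a ∈ Q, a * a = 1 := fun a ha => (h.sq a ha).resolve_right (hno a ha)
  have h2 : ∀ a ∈ Q, ∀ b ∈ Q, a * b = b * a := fun a ha b hb => by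
    have e := h1 _ (Q.mul_mem ha hb)
    calc a * b = (a * b)⁻¹ := (inv_eq_of_mul_eq_one_right e).symm
      _ = b⁻¹ * a⁻¹ := mul_inv_rev a b
      _ = b * a := by rw [inv_eq_of_mul_eq_one_right (h1 a ha), inv_eq_of_mul_eq_one_right (h1 b hb)]
  have h3 : (Q : Set G) ⊆ {1, s} := fun a ha => by
    rcases h.centre a ha (fun b hb => h2 a ha b hb) with rfl | rfl <;> simp
  have h4 := Set.ncard_le_ncard h3 (Set.toFinite _)
  rw [← Nat.card_coe_set_eq] at h4
  have h5 : ({1, s} : Set G).ncard ≤ 2 :=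
    (Set.ncard_insert_le _ _).trans (by simp)
  have h6 : Nat.card (Q : Set G) = 32 := h.card_Q
  omega

/-- Elements of the first factor. -/
theorem outside (h : Raw s Q x t) {i : G} :
    ∃ b ∈ Q, ∀ z < 2, ∀ u < 4, b ≠ s ^ z * unit' x i u := by
  classical
  by_contra hno
  push_neg at hno
  have h3 : (Q : Set G) ⊆ (fun w : ℕ × ℕ => s ^ w.1 * unit' x i w.2) ''
      ((Finset.range 2 ×ˢ Finset.range 4 : Finset (ℕ × ℕ)) : Set (ℕ × ℕ)) := fun a ha => by
    obtain ⟨z, hz, u, hu, e⟩ := hno a ha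
    exact ⟨(z, u), by simp [hz, hu], e.symm⟩
  have h4 := Set.ncard_le_ncard h3 ((Finset.finite_toSet _).image _)
  have h5 := Set.ncard_image_le (f := fun w : ℕ × ℕ => s ^ w.1 * unit' x i w.2)
    (Finset.finite_toSet (Finset.range 2 ×ˢ Finset.range 4 : Finset (ℕ × ℕ)))
  rw [Set.ncard_coe_finset] at h5
  rw [← Nat.card_coe_set_eq] at h4
  have h6 : Nat.card (Q : Set G) = 32 := h.card_Q
  rw [show (Finset.range 2 ×ˢ Finset.range 4).card = 8 from by decide] at h5
  omega

/-- Correct an element by a unit so that it commutes with the triple. -/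
theorem adjust (h : Raw s Q x t) {i : G} (T : Triple s x i) (hi : i ∈ Q) {b : G} (hb : b ∈ Q) :
    ∃ u < 4, Commute (b * unit' x i u) i ∧ Commute (b * unit' x i u) (x * i * x⁻¹) := by
  have hj := h.x_norm i hi
  have fix : ∀ (u w : ℕ), u < 4 → w < 4 → unit' x i w ∈ Q →
      ∀ k : ℕ, b * unit' x i w = unit' x i w * b * s ^ k → (k + sgnT u w + sgnT w u) % 2 = 0 →
      Commute (b * unit' x i u) (unit' x i w) := by
    intro u w hu hw hwQ k hk he
    have h1 := T.unit_mul h.xs h.ss u w hu hw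
    have h2 := T.unit_mul h.xs h.ss w u hw hu
    rw [Nat.xor_comm w u] at h2
    have hsw : ∀ n, s ^ n * unit' x i w = unit' x i w * s ^ n := fun n => h.scomm_pow n hwQ
    have hwu : unit' x i u * unit' x i w =
        s ^ (sgnT u w + sgnT w u) * (unit' x i w * unit' x i u) := by
      rw [h2, ← mul_assoc, ← pow_add, h1, h.spow_eq (sgnT u w + sgnT w u + sgnT w u),
        show (sgnT u w + sgnT w u + sgnT w u) % 2 = sgnT u w % 2 by omega, ← h.spow_eq]
    show b * unit' x i u * unit' x i w = unit' x i w * (b * unit' x i u)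
    calc b * unit' x i u * unit' x i w
        = s ^ (sgnT u w + sgnT w u) * (b * unit' x i w) * unit' x i u := by
          rw [mul_assoc b, hwu, ← mul_assoc b, ← h.scomm_pow _ hb]; simp only [mul_assoc]
      _ = s ^ (sgnT u w + sgnT w u + k) * (unit' x i w * b) * unit' x i u := by
          rw [hk, ← h.scomm_pow k (Q.mul_mem hwQ hb)]; simp only [pow_add, mul_assoc]
      _ = unit' x i w * (b * unit' x i u) := by
          rw [h.spow_eq, show (sgnT u w + sgnT w u + k) % 2 = 0 by omega, pow_zero, one_mul,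
            mul_assoc]
  have dk : ∀ w, w < 4 → ∃ k < 2, b * unit' x i w = unit' x i w * b * s ^ k := fun w hw => by
    rcases h.comm b hb _ (h.unit_mem hi w) with e | e
    · exact ⟨0, by omega, by rw [pow_zero, mul_one, e]⟩
    · exact ⟨1, by omega, by rw [pow_one, e]⟩
  obtain ⟨k1, hk1, e1⟩ := dk 1 (by omega)
  obtain ⟨k2, hk2, e2⟩ := dk 2 (by omega)
  have tab : ∀ a < 2, ∀ c < 2, ∃ u < 4,
      (a + sgnT u 1 + sgnT 1 u) % 2 = 0 ∧ (c + sgnT u 2 + sgnT 2 u) % 2 = 0 := by decide
  obtain ⟨u, hu, p1, p2⟩ := tab k1 hk1 k2 hk2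
  refine ⟨u, hu, ?_, ?_⟩
  · have := fix u 1 hu (by omega) (h.unit_mem hi 1) k1 e1 p1
    rwa [unit'_one] at this
  · have := fix u 2 hu (by omega) (h.unit_mem hi 2) k2 e2 p2
    rwa [unit'_two] at this

/-- Every element commuting with `i` and its conjugate commutes with all units. -/
theorem commute_units (h : Raw s Q x t) {i a : G} (h1 : Commute a i)
    (h2 : Commute a (x * i * x⁻¹)) (u : ℕ) : Commute a (unit' x i u) := by
  unfold unit'
  split_ifs
  · exact Commute.one_right a
  · exact h1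
  · exact h2
  · exact h1.mul_right h2

/-- A second triple commuting with the first. -/
theorem exists_second (h : Raw s Q x t) {i : G} (T : Triple s x i) (hi : i ∈ Q) :
    ∃ a ∈ Q, Triple s x a ∧ ∀ u < 4, ∀ v < 4, Commute (unit' x i u) (unit' x a v) := by
  obtain ⟨b, hb, hbout⟩ := h.outside (i := i)
  obtain ⟨u, hu, c1, c2⟩ := h.adjust T hi hb
  set c := b * unit' x i u with hc
  have hcQ : c ∈ Q := Q.mul_mem hb (h.unit_mem hi u)
  have hnc : ¬ ∀ d ∈ Q, c * d = d * c := by
    intro hall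
    have hmul : unit' x i u * unit' x i u = s ^ nz u := by
      rw [T.unit_mul h.xs h.ss u u hu hu, Nat.xor_self, unit'_zero, mul_one, (sgn_cases u hu).1]
    have hb' : b = c * (s ^ nz u * unit' x i u) := by
      rw [hc, mul_assoc, ← mul_assoc _ (s ^ nz u), ← h.scomm_pow _ (h.unit_mem hi u),
        mul_assoc (s ^ nz u), hmul, ← pow_add, h.spow_eq,
        show (nz u + nz u) % 2 = 0 by omega, pow_zero, mul_one]
    rcases h.centre c hcQ hall with hh | hh
    · refine hbout (nz u) (by unfold nz; split_ifs <;> omega) u hu ?_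
      rw [hb', hh, one_mul]
    · refine hbout ((1 + nz u) % 2) (Nat.mod_lt _ (by omega)) u hu ?_
      rw [hb', hh, ← h.spow_eq, pow_add, pow_one, mul_assoc]
  push_neg at hnc
  obtain ⟨d, hd, hcd⟩ := hnc
  obtain ⟨v, hv, d1, d2⟩ := h.adjust T hi hd
  set d' := d * unit' x i v with hd'
  have hd'Q : d' ∈ Q := Q.mul_mem hd (h.unit_mem hi v)
  have hcd' : c * d' = d' * c * s := by
    refine (h.comm c hcQ d' hd'Q).resolve_left fun e => hcd ?_
    have hcv := h.commute_units c1 c2 v
    rw [hd', ← mul_assoc, mul_assoc d, ← hcv.eq, ← mul_assoc] at e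
    exact mul_right_cancel e
  -- one of `c, d', cd'` has square `s`
  obtain ⟨a, haQ, ha1, ha2, ha3⟩ : ∃ a ∈ Q, Commute a i ∧ Commute a (x * i * x⁻¹) ∧ a * a = s := by
    rcases h.sq c hcQ with e1 | e1
    · rcases h.sq d' hd'Q with e2 | e2
      · refine ⟨c * d', Q.mul_mem hcQ hd'Q, c1.mul_left d1, c2.mul_left d2, ?_⟩
        calc c * d' * (c * d') = d' * c * s * (c * d') := by rw [← hcd']
          _ = d' * c * (c * d' * s) := by
              rw [mul_assoc (d' * c), h.s_comm _ (Q.mul_mem hcQ hd'Q)]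
          _ = d' * (c * c) * d' * s := by simp only [mul_assoc]
          _ = s := by rw [e1, mul_one, e2, one_mul]
      · exact ⟨d', hd'Q, d1, d2, e2⟩
    · exact ⟨c, hcQ, c1, c2, e1⟩
  have fin : ∀ a ∈ Q, Commute a i → Commute a (x * i * x⁻¹) → Triple s x a →
      ∃ a ∈ Q, Triple s x a ∧ ∀ u < 4, ∀ v < 4, Commute (unit' x i u) (unit' x a v) := by
    intro a haQ ha1 ha2 Ta
    refine ⟨a, haQ, Ta, fun u _ v _ => ?_⟩
    have hk : x * (x * i * x⁻¹) * x⁻¹ = i * (x * i * x⁻¹) := T.cyc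
    have hxx : x * (i * (x * i * x⁻¹)) * x⁻¹ = i := by
      have := T.x_unit h.x3 3 (by omega)
      rwa [unit'_three, show rot 3 = 1 from rfl, unit'_one] at this
    have hj : Commute (x * a * x⁻¹) (x * i * x⁻¹) := by
      show _ = _; rw [← conj_mul', ← conj_mul', ha1.eq]
    have hi' : Commute (x * a * x⁻¹) i := by
      show _ = _
      have h3 := (ha1.mul_right ha2).eq
      calc (x * a * x⁻¹) * i = (x * a * x⁻¹) * (x * (i * (x * i * x⁻¹)) * x⁻¹) := by rw [hxx]
        _ = (x * (i * (x * i * x⁻¹)) * x⁻¹) * (x * a * x⁻¹) := by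
              rw [← conj_mul', h3, conj_mul']
        _ = i * (x * a * x⁻¹) := by rw [hxx]
    have hu : ∀ u, Commute a (unit' x i u) := h.commute_units ha1 ha2
    have hu' : ∀ u, Commute (x * a * x⁻¹) (unit' x i u) := h.commute_units hi' hj
    conv => arg 2; unfold unit'
    split_ifs
    · exact Commute.one_right _
    · exact (hu u).symm
    · exact (hu' u).symm
    · exact ((hu u).mul_left (hu' u)).symm
  rcases h.exists_triple haQ ha3 with Ta | Ta
  · exact fin a haQ ha1 ha2 Ta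
  · refine fin (a * s) (Q.mul_mem haQ h.s_mem) ?_ ?_ Ta
    · exact ha1.mul_left (h.s_comm i hi)
    · exact ha2.mul_left (h.s_comm _ (h.x_norm i hi))

/-- The inverting element sends the triple of `i` to the reflected triple of `w`. -/
theorem t_unit (h : Raw s Q x t) {i w : G} (hi : i ∈ Q) (W : Triple s x w)
    (T : Triple s x i) (hw : t * i * t⁻¹ = s * w) (u : ℕ) (hu : u < 4) :
    t * unit' x i u * t⁻¹ = s ^ nz u * unit' x w (refl' u) := by
  have hxi : x⁻¹ * s * x = s := by rw [mul_assoc, ← h.xs, inv_mul_cancel_left]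
  have hconj : ∀ g : G, t * (x * g * x⁻¹) * t⁻¹ = x⁻¹ * (t * g * t⁻¹) * x := fun g => by
    rw [show t * (x * g * x⁻¹) * t⁻¹ = (t * x * t⁻¹) * (t * g * t⁻¹) * (t * x * t⁻¹)⁻¹ by group,
      h.tx, inv_inv]
  have cm : ∀ a b : G, x⁻¹ * (a * b) * x = (x⁻¹ * a * x) * (x⁻¹ * b * x) := fun a b => by group
  have xw : ∀ v < 4, x⁻¹ * unit' x w (rot v) * x = unit' x w v := fun v hv => by
    rw [← W.x_unit h.x3 v hv]; group
  rcases Nat.lt_succ_iff.1 hu |>.eq_or_lt with rfl | hu
  · rw [show nz 3 = 1 from rfl, show refl' 3 = 2 from rfl, pow_one, unit'_three, ← T.cyc,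
      hconj, hconj, hw]
    have e3 := xw 3 (by omega)
    rw [show rot 3 = 1 from rfl, unit'_one] at e3
    have e2 := xw 2 (by omega)
    rw [show rot 2 = 3 from rfl] at e2
    have f1 : x⁻¹ * (s * w) * x = s * unit' x w 3 := by rw [cm, hxi, e3]
    have f2 : x⁻¹ * (s * unit' x w 3) * x = s * unit' x w 2 := by rw [cm, hxi, e2]
    rw [f1, f2]
  rcases Nat.lt_succ_iff.1 hu |>.eq_or_lt with rfl | hu
  · rw [show nz 2 = 1 from rfl, show refl' 2 = 3 from rfl, pow_one, unit'_two, hconj, hw, cm, hxi]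
    have e3 := xw 3 (by omega)
    rw [show rot 3 = 1 from rfl, unit'_one] at e3
    rw [e3]
  rcases Nat.lt_succ_iff.1 hu |>.eq_or_lt with rfl | hu
  · rw [show nz 1 = 1 from rfl, show refl' 1 = 1 from rfl, pow_one, unit'_one, unit'_one, hw]
  · obtain rfl : u = 0 := by omega
    rw [show nz 0 = 0 from rfl, show refl' 0 = 0 from rfl, pow_zero, unit'_zero, unit'_zero,
      mul_one, mul_one, mul_inv_cancel]

/-- The inverting element cannot fix an element of a triple it stabilises. -/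
theorem t_neg (h : Raw s Q x t) {i : G} (hi : i ∈ Q) (T : Triple s x i) {z : ℕ}
    (hw : t * i * t⁻¹ = s ^ z * i) : t * i * t⁻¹ = s * i := by
  rw [h.spow_eq] at hw
  rcases (show z % 2 = 0 ∨ z % 2 = 1 by omega) with hz | hz
  · exfalso
    rw [hz, pow_zero, one_mul] at hw
    have hconj : ∀ g : G, t * (x * g * x⁻¹) * t⁻¹ = x⁻¹ * (t * g * t⁻¹) * x := fun g => by
      rw [show t * (x * g * x⁻¹) * t⁻¹ = (t * x * t⁻¹) * (t * g * t⁻¹) * (t * x * t⁻¹)⁻¹ by group,
        h.tx, inv_inv]
    have xw : ∀ v < 4, x⁻¹ * unit' x i (rot v) * x = unit' x i v := fun v hv => by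
      rw [← T.x_unit h.x3 v hv]; group
    have e3 := xw 3 (by omega)
    rw [show rot 3 = 1 from rfl, unit'_one] at e3
    have e2 := xw 2 (by omega)
    rw [show rot 2 = 3 from rfl] at e2
    have f2 : t * unit' x i 2 * t⁻¹ = unit' x i 3 := by rw [unit'_two, hconj, hw, e3]
    have f3 : t * unit' x i 3 * t⁻¹ = unit' x i 2 := by
      rw [unit'_three, ← T.cyc, hconj, hconj, hw, e3, e2]
    have f3' : t * unit' x i 3 * t⁻¹ = s * unit' x i 2 := by
      rw [unit'_three, conj_mul', hw, ← unit'_two (i := i), f2]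
      conv_lhs => arg 1; rw [← unit'_one (x := x) (i := i)]
      rw [T.unit_mul h.xs h.ss 1 3 (by omega) (by omega)]
      simp [show sgnT 1 3 = 1 from rfl]
    exact h.s_ne (by rw [← mul_right_cancel_iff (a := unit' x i 2), one_mul, ← f3', f3])
  · rw [hz, pow_one] at hw; exact hw

/-- Replace the inverting element by a product with a power of `x`. -/
theorem rotate (h : Raw s Q x t) : Raw s Q x (x * t) := by
  have hxinv : ∀ a ∈ Q, x * t * a * (x * t)⁻¹ ∈ Q := fun a ha => by
    rw [show x * t * a * (x * t)⁻¹ = x * (t * a * t⁻¹) * x⁻¹ by group]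
    exact h.x_norm _ (h.t_norm a ha)
  refine { h with
    ts := ?_, t_norm := hxinv, tx := ?_, tt := ?_, cover := ?_ }
  · rw [mul_assoc, h.ts, ← mul_assoc, h.xs, mul_assoc]
  · rw [show x * t * x * (x * t)⁻¹ = x * (t * x * t⁻¹) * x⁻¹ by group, h.tx]; group
  · have : x * t * (x * t) = t * t := by
      rw [show x * t * (x * t) = x * (t * x * t⁻¹) * (t * t) by group, h.tx]; group
    rw [this]; exact h.tt
  · intro g hg
    obtain ⟨n, hn, b, hb, hq⟩ := h.cover g hg
    rcases (show b = 0 ∨ b = 1 by omega) with rfl | rfl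
    · exact ⟨n, hn, 0, by omega, by simpa using hq⟩
    · refine ⟨(n + 2) % 3, Nat.mod_lt _ (by omega), 1, by omega, ?_⟩
      have hp : x ^ ((n + 2) % 3) * x = x ^ n := by
        have h3 : x ^ 3 = 1 := by rw [pow_succ, pow_two, h.x3]
        rw [← pow_succ, pow_eq_pow_mod _ h3, pow_eq_pow_mod n h3]
        congr 1
        omega
      rwa [pow_one, ← mul_assoc, hp, ← pow_one t]

end Raw

end H55.SThree
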