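import Cfsg.Agent.H55.SThree.ModelDef
import Mathlib.Data.ZMod.Basic

/-! Facts for a single fused invariant subgroup, checked by evaluation. -/

set_option autoImplicit false

namespace H55.SThree

/-- An element of `rL` of another index moves `E` by `s` and fixes an element of `E`. -/
theorem centre_of_R : ∀ sw e : Bool, ∀ k ∈ List.range 3, (sw || k == 0) = true → ∀ c ∈ rL,
    kIx c ≠ k →
    (∃ d ∈ eL k, conjC sw e c d = mulC sw e d 96) ∧
      ∃ d ∈ eL k, d ≠ 0 ∧ d ≠ 96 ∧ isC sw e c d := by decide +kernel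

/-- Every involution fixes a nontrivial element of an invariant subgroup. -/
theorem rL_exists_other : ∀ k ∈ List.range 3, ∃ c ∈ rL, kIx c ≠ k := by decide +kernel

/-- Code of a vector in an invariant subgroup. -/
def encE (sw : Bool) (k : ℕ) (v : Fin 3 → ZMod 2) : ℕ :=
  mulC sw false (mulC sw false (if v 0 = 0 then 0 else 96) (if v 1 = 0 then 0 else (eL k).getD 1 0))
    (if v 2 = 0 then 0 else (eL k).getD 2 0)

theorem encE_spec : ∀ sw : Bool, ∀ k ∈ List.range 3,
    (∀ u v : Fin 3 → ZMod 2, encE sw k u ∈ eL k ∧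
      mulC sw false (encE sw k u) (encE sw k v) = encE sw k (u + v) ∧
      (encE sw k u = encE sw k v → u = v)) ∧
    (∀ c ∈ eL k, ∃ v : Fin 3 → ZMod 2, encE sw k v = c) ∧ (eL k).Nodup ∧ (eL k).length = 8 := by
  decide +kernel

end H55.SThree
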