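import Cfsg.Agent.H55.SThree.Fusion
import Cfsg.Agent.H55.SThree.ModelOne
import Cfsg.Agent.H37.SmallIsoBig
import Mathlib.LinearAlgebra.Matrix.ToLin
import Mathlib.LinearAlgebra.Matrix.SpecialLinearGroup

/-!
A normal invariant elementary subgroup of order eight on which the group is transitive gives the
quotient `PSL(3, 2)`.
-/

set_option autoImplicit false

namespace H55.SThree

open scoped Matrix

variable {G : Type*} [Group G]

namespace Frame

variable {s : G} {Q : Subgroup G} {sw : Bool} {φ : ℕ → G}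

theorem quotient_psl [Finite G] (F : Frame s Q sw false φ) {k : ℕ} (hk : k ∈ List.range 3)
    (D : Subgroup G) [hN : D.Normal] (hD : ∀ g, g ∈ D ↔ ∃ c ∈ eL k, φ c = g)
    (htr : ∀ d ∈ D, d ≠ 1 → IsConj s d) :
    IsMulCommutative D ∧ (∀ n ∈ D, n ^ 2 = 1) ∧ Nat.card D = 8 ∧
      Nonempty (G ⧸ D ≃* Matrix.ProjectiveSpecialLinearGroup (Fin 3) (ZMod 2)) := by
  classical
  obtain ⟨he, hsurj8, hnd, hlen⟩ := encE_spec sw k hk
  have heA : ∀ v, encE sw k v ∈ allL := fun v => eL_allL hk (he v v).1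
  have hι : Function.Injective fun v => φ (encE sw k v) := fun u v h =>
    (he u v).2.2 (F.inj _ (heA u) _ (heA v) h)
  have hmulv : ∀ u v, φ (encE sw k u) * φ (encE sw k v) = φ (encE sw k (u + v)) := fun u v => by
    rw [F.mul _ (heA u) _ (heA v), (he u v).2.1]
  have hcard : Nat.card D = 8 := by
    let f : (eL k).toFinset → D := fun c => ⟨φ c, (hD _).2 ⟨c, List.mem_toFinset.1 c.2, rfl⟩⟩
    have hf : Function.Bijective f := by
      refine ⟨fun c d h => Subtype.ext (F.inj _ (eL_allL hk (List.mem_toFinset.1 c.2)) _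
        (eL_allL hk (List.mem_toFinset.1 d.2)) (congrArg Subtype.val h)), fun y => ?_⟩
      obtain ⟨c, hc, e1⟩ := (hD y.1).1 y.2
      exact ⟨⟨c, List.mem_toFinset.2 hc⟩, Subtype.ext e1⟩
    rw [← Nat.card_eq_of_bijective f hf, Nat.card_eq_fintype_card, Fintype.card_coe,
      List.toFinset_card_of_nodup hnd, hlen]
  have hcomm : ∀ x ∈ D, ∀ y ∈ D, x * y = y * x ∧ x * x = 1 := by
    intro x hx y hy
    obtain ⟨a, ha, rfl⟩ := (hD x).1 hx
    obtain ⟨b, hb, rfl⟩ := (hD y).1 hy
    obtain ⟨-, hab, haa⟩ := eL_elem sw false k hk a ha b hb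
    rw [F.mul a (eL_allL hk ha) b (eL_allL hk hb), F.mul b (eL_allL hk hb) a (eL_allL hk ha),
      F.mul a (eL_allL hk ha) a (eL_allL hk ha), hab, haa, F.map_zero]
    exact ⟨rfl, rfl⟩
  refine ⟨⟨⟨fun x y => Subtype.ext (hcomm x x.2 y y.2).1⟩⟩,
    fun n hn => by rw [pow_two]; exact (hcomm n hn n hn).2, hcard, ?_⟩
  -- the linear action
  have hex : ∀ (g : G) (v : Fin 3 → ZMod 2), ∃ w, φ (encE sw k w) = g * φ (encE sw k v) * g⁻¹ := by
    intro g v
    obtain ⟨b, hb, hbe⟩ := (hD _).1 (hN.conj_mem _ ((hD _).2 ⟨_, (he v v).1, rfl⟩) g)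
    obtain ⟨w, hw⟩ := hsurj8 b hb
    exact ⟨w, by rw [hw, hbe]⟩
  choose f hf using hex
  have fadd : ∀ g u v, f g (u + v) = f g u + f g v := fun g u v => hι (by
    show φ (encE sw k _) = φ (encE sw k _)
    rw [hf, ← hmulv u v, ← hmulv, hf, hf]
    group)
  let lin : G → ((Fin 3 → ZMod 2) →ₗ[ZMod 2] (Fin 3 → ZMod 2)) := fun g =>
    AddMonoidHom.toZModLinearMap 2 (AddMonoidHom.mk' (f g) (fadd g))
  have lmul : ∀ g h, lin (g * h) = (lin g).comp (lin h) := fun g h => LinearMap.ext fun v => hι (by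
    show φ (encE sw k (f (g * h) v)) = φ (encE sw k (f g (f h v)))
    rw [hf, hf, hf]; group)
  have lone : lin 1 = LinearMap.id := LinearMap.ext fun v => hι (by
    show φ (encE sw k (f 1 v)) = φ (encE sw k v)
    rw [hf]; group)
  have hdet : ∀ g, (LinearMap.toMatrix' (lin g)).det = 1 := by
    intro g
    have h1 : (LinearMap.toMatrix' (lin g)).det * (LinearMap.toMatrix' (lin g⁻¹)).det = 1 := by
      rw [← Matrix.det_mul, ← LinearMap.toMatrix'_comp, ← lmul, mul_inv_cancel, lone,
        LinearMap.toMatrix'_id, Matrix.det_one]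
    exact (show ∀ a b : ZMod 2, a * b = 1 → a = 1 by decide) _ _ h1
  let mk : G → Matrix.SpecialLinearGroup (Fin 3) (ZMod 2) :=
    fun g => ⟨LinearMap.toMatrix' (lin g), hdet g⟩
  let ρ : G →* Matrix.SpecialLinearGroup (Fin 3) (ZMod 2) :=
    { toFun := mk
      map_one' := Subtype.ext (by
        show LinearMap.toMatrix' (lin 1) = 1
        rw [lone, LinearMap.toMatrix'_id])
      map_mul' := fun g h => Subtype.ext (by
        show LinearMap.toMatrix' (lin (g * h)) =
          LinearMap.toMatrix' (lin g) * LinearMap.toMatrix' (lin h)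
        rw [lmul, LinearMap.toMatrix'_comp]) }
  have h0 := (eL_base hk).2
  have hker : ρ.ker = D := by
    refine le_antisymm (fun g hg => ?_) ?_
    · have hl : lin g = LinearMap.id := by
        apply LinearMap.toMatrix'.injective
        rw [LinearMap.toMatrix'_id]
        exact congrArg (fun x : Matrix.SpecialLinearGroup (Fin 3) (ZMod 2) =>
          (x : Matrix (Fin 3) (Fin 3) (ZMod 2))) (MonoidHom.mem_ker.mp hg)
      have hcom : ∀ b ∈ eL k, Commute g (φ b) := by
        intro b hb
        obtain ⟨v, rfl⟩ := hsurj8 b hb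
        have h := hf g v
        rw [show f g v = v from LinearMap.congr_fun hl v] at h
        exact mul_inv_eq_iff_eq_mul.mp h.symm
      obtain ⟨c, hc, rfl⟩ := F.surj g (mem_L_iff.2 (F.map_s ▸ hcom 96 h0))
      rw [hD]
      rcases inE_selfCent sw false k hk c hc with h | ⟨d, hd, hne⟩
      · exact ⟨c, h, rfl⟩
      · exact absurd ((F.commute_iff hc (eL_allL hk hd)).1 (hcom d hd)) hne
    · intro g hg
      refine MonoidHom.mem_ker.mpr (Subtype.ext ?_)
      show LinearMap.toMatrix' (lin g) = 1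
      rw [← LinearMap.toMatrix'_id]
      congr 1
      refine LinearMap.ext fun v => hι ?_
      show φ (encE sw k (f g v)) = φ (encE sw k v)
      rw [hf, (hcomm g hg _ ((hD _).2 ⟨_, (he v v).1, rfl⟩)).1, mul_inv_cancel_right]
  -- the order of the group
  have hlow : 1344 ≤ Nat.card G := by
    have hk' : ∀ d : {d : D // d ≠ 1}, ∃ k : G, k * s * k⁻¹ = (d.1 : G) := fun d =>
      isConj_iff.mp (htr _ d.1.2 (fun h => d.2 (Subtype.ext h)))
    choose kk hkk using hk'
    have hinj : Function.Injective fun p : {d : D // d ≠ 1} × Subgroup.centralizer ({s} : Set G) =>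
        kk p.1 * (p.2 : G) := by
      rintro ⟨a, l⟩ ⟨b, l'⟩ h
      have e : ∀ (a : {d : D // d ≠ 1}) (l : Subgroup.centralizer ({s} : Set G)),
          (kk a * (l : G)) * s * (kk a * (l : G))⁻¹ = (a.1 : G) := fun a l => by
        rw [← hkk a, show kk a * (l : G) * s * (kk a * (l : G))⁻¹ =
          kk a * ((l : G) * s * (l : G)⁻¹) * (kk a)⁻¹ by group, (F.s_comm l.2).eq,
          mul_inv_cancel_right]
      simp only at h
      have hab : a = b := Subtype.ext (Subtype.ext ((e a l).symm.trans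
        ((congrArg (fun y => y * s * y⁻¹) h).trans (e b l'))))
      subst hab
      exact Prod.ext rfl (Subtype.ext (mul_left_cancel h))
    have hle := Nat.card_le_card_of_injective _ hinj
    have h7 : Nat.card {d : D // d ≠ 1} = 7 := by
      haveI : Fintype D := Fintype.ofFinite _
      rw [Nat.card_eq_fintype_card, Fintype.card_subtype_compl, Fintype.card_subtype_eq,
        ← Nat.card_eq_fintype_card, hcard]
    have h192 : Nat.card (Subgroup.centralizer ({s} : Set G)) = 192 := by
      let f : Fin 192 → Subgroup.centralizer ({s} : Set G) :=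
        fun c => ⟨φ c, F.mem c (mem_allL.2 c.2)⟩
      have hf : Function.Bijective f := ⟨fun c d h => Fin.ext (F.inj _ (mem_allL.2 c.2) _
        (mem_allL.2 d.2) (congrArg Subtype.val h)), fun y => by
        obtain ⟨c, hc, e1⟩ := F.surj y.1 y.2
        exact ⟨⟨c, mem_allL.1 hc⟩, Subtype.ext e1⟩⟩
      rw [← Nat.card_eq_of_bijective f hf, Nat.card_fin]
    rw [Nat.card_prod, h7, h192] at hle
    exact hle
  have hSL : Nat.card (Matrix.SpecialLinearGroup (Fin 3) (ZMod 2)) = 168 := by
    have := H37.card_SL_fin (F := ZMod 2) 3 (by norm_num)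
    rw [Nat.card_zmod] at this
    norm_num [Fin.prod_univ_three, -Nat.card_eq_fintype_card] at this ⊢
    omega
  have hsurj : ρ.range = ⊤ := by
    refine Subgroup.eq_top_of_card_eq _ (le_antisymm (Subgroup.card_le_card_group _) ?_)
    have e := Subgroup.card_mul_index ρ.ker
    rw [Subgroup.index_ker, hker, hcard] at e
    rw [hSL]
    omega
  have hc : Subgroup.center (Matrix.SpecialLinearGroup (Fin 3) (ZMod 2)) = ⊥ := by
    rw [← Subgroup.card_eq_one, H37.card_center_SL]; simp
  let ψ : Matrix.ProjectiveSpecialLinearGroup (Fin 3) (ZMod 2) ≃*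
      Matrix.SpecialLinearGroup (Fin 3) (ZMod 2) :=
    (QuotientGroup.quotientMulEquivOfEq hc).trans QuotientGroup.quotientBot
  exact ⟨((QuotientGroup.quotientMulEquivOfEq hker.symm).trans
    (QuotientGroup.quotientKerEquivOfSurjective ρ (MonoidHom.range_eq_top.mp hsurj))).trans ψ.symm⟩

end Frame

end H55.SThree
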