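import Cfsg.Agent.H55.SThree.Fusion
import Cfsg.Agent.H55.SThree.ModelOne
import Cfsg.Agent.H55.SThree.Eight
import Cfsg.Agent.H65.Dihedral
import Cfsg.Agent.H66.Inverted
import Cfsg.Agent.H85.BrauerSuzuki
import Cfsg.Agent.H1.Cores

/-!
A single fused invariant subgroup is normal in the whole group.
-/

set_option autoImplicit false

namespace H55.SThree

variable {G : Type*} [Group G]

namespace Frame

variable {s : G} {Q : Subgroup G} {sw : Bool} {φ : ℕ → G}

/-- An element of odd order in `C(s) ∩ C(y)`, `|C(s) ∩ C(y)| = 32`, is trivial. -/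
theorem odd_eq_one [Finite G] (F : Frame s Q sw false φ) {c : ℕ} (hc : c ∈ rL)
    (h32 : r32 sw c = true) {x : G} (h1 : Commute x s) (h2 : Commute x (φ c))
    (ho : Odd (orderOf x)) : x = 1 := by
  have hx : x ∈ Subgroup.centralizer ({s} : Set G) ⊓ Subgroup.centralizer ({φ c} : Set G) :=
    ⟨mem_L_iff.2 h1, mem_L_iff.2 h2⟩
  have hd := Subgroup.orderOf_dvd_natCard _ hx
  rw [F.card_cent (rL_allL hc), (cnt_R sw false c hc).1, if_pos h32] at hd
  have h : orderOf x ∣ 2 ^ 5 := hd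
  obtain ⟨i, -, hi⟩ := (Nat.dvd_prime_pow Nat.prime_two).1 h
  rcases Nat.eq_zero_or_pos i with rfl | hpos
  · exact orderOf_eq_one_iff.1 (by simpa using hi)
  · rw [hi] at ho
    obtain ⟨j, hj⟩ := Nat.exists_eq_add_of_le hpos
    rw [hj, pow_add, pow_one] at ho
    exact absurd ho (by simp [parity_simps])

/-- The single fused case. -/
theorem single_case [Finite G] (F : Frame s Q sw false φ) (hsw : sw = true) {k : ℕ}
    (hk : Fused s sw φ k) (huniq : ∀ a ∈ rL, IsConj s (φ a) → kIx a = k) :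
    ∃ (N : Subgroup G) (_ : N.Normal), IsMulCommutative N ∧ (∀ n ∈ N, n ^ 2 = 1) ∧ Nat.card N = 8 ∧
      Nonempty (G ⧸ N ≃* Matrix.ProjectiveSpecialLinearGroup (Fin 3) (ZMod 2)) := by
  classical
  obtain ⟨hk3, h32, D, hD, htr⟩ := hk
  set N := Subgroup.normalizer (D : Set G) with hNdef
  have hos : orderOf s = 2 := H65.two_iff.2 ⟨F.ss, F.s_ne⟩
  have hsD : s ∈ D := (hD s).2 ⟨96, (eL_base hk3).2, F.map_s⟩
  have hDconj : ∀ d ∈ D, d ≠ 1 → IsConj s d := fun d hd h1 =>
    let ⟨h, _, hh⟩ := htr d hd h1; isConj_iff.2 ⟨h, hh⟩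
  have hLN : Subgroup.centralizer ({s} : Set G) ≤ N := by
    intro g hg
    have key : ∀ g ∈ Subgroup.centralizer ({s} : Set G), ∀ y ∈ D, g * y * g⁻¹ ∈ D := by
      intro g hg y hy
      obtain ⟨c, hc, rfl⟩ := F.surj g hg
      obtain ⟨d, hd, rfl⟩ := (hD y).1 hy
      rw [F.map_conj hc (eL_allL hk3 hd), hD]
      exact ⟨_, inE_normal sw false k hk3 h32 d hd c hc, rfl⟩
    rw [hNdef, Subgroup.mem_normalizer_iff]
    refine fun y => ⟨key g hg y, fun hy => ?_⟩
    have h := key g⁻¹ (inv_mem hg) _ hy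
    rwa [inv_inv, show g⁻¹ * (g * y * g⁻¹) * g = y by group] at h
  have hNconj : ∀ {h : G}, h ∈ N → ∀ {d : G}, d ∈ D → h * d * h⁻¹ ∈ D :=
    fun hh _ hd => (Subgroup.mem_normalizer_iff.1 hh _).1 hd
  have hNconj' : ∀ {h : G}, h ∈ N → ∀ {d : G}, d ∈ D → h⁻¹ * d * h ∈ D := fun {h} hh {d} hd => by
    have := hNconj (inv_mem hh) hd
    rwa [inv_inv] at this
  -- centralizers of nontrivial elements of `D`
  have hcent : ∀ d ∈ D, d ≠ 1 → ∀ g, Commute g d → g ∈ N := by
    intro d hd h1 g hg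
    obtain ⟨h, hh, rfl⟩ := htr d hd h1
    have : h⁻¹ * g * h ∈ N := hLN (mem_L_iff.2 (by
      show _ = _
      calc h⁻¹ * g * h * s = h⁻¹ * (g * (h * s * h⁻¹)) * h := by group
        _ = h⁻¹ * (h * s * h⁻¹ * g) * h := by rw [hg.eq]
        _ = s * (h⁻¹ * g * h) := by group))
    have := mul_mem (mul_mem hh this) (inv_mem hh)
    rwa [show h * (h⁻¹ * g * h) * h⁻¹ = g by group] at this
  -- an outer involution of `C(s)` is conjugate in `N` into `Q`
  have hout : ∀ c ∈ allL, isI sw false c = true → isQ c = false →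
      ∃ h ∈ N, ∃ c' ∈ rL, kIx c' ≠ k ∧ h⁻¹ * φ c * h = φ c' := by
    intro c hc hci hcq
    obtain ⟨a, ha, ha96, ha0, hca, hact⟩ := exists_centre sw false k hk3 h32 c hc hcq hci
    have haA := eL_allL hk3 ha
    obtain ⟨h, hh, hha⟩ := htr (φ a) ((hD _).2 ⟨a, ha, rfl⟩)
      (fun h1 => ha0 (F.inj a haA 0 zero_mem_allL (h1.trans F.map_zero.symm)))
    have hca' : φ c * φ a * (φ c)⁻¹ = φ a := by rw [F.map_conj hc haA, hca]
    set v := h⁻¹ * φ c * h with hv
    have hvL : v ∈ Subgroup.centralizer ({s} : Set G) := mem_L_iff.2 (by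
      show _ = _
      have hc' : φ c * (h * s * h⁻¹) = h * s * h⁻¹ * φ c := by
        rw [hha]; exact mul_inv_eq_iff_eq_mul.1 hca'
      calc v * s = h⁻¹ * (φ c * (h * s * h⁻¹)) * h := by rw [hv]; group
        _ = h⁻¹ * (h * s * h⁻¹ * φ c) * h := by rw [hc']
        _ = s * v := by rw [hv]; group)
    obtain ⟨c', hc', hcv⟩ := F.surj v hvL
    have hcQ : isQ c' = true := by
      by_contra hne
      rw [Bool.not_eq_true] at hne
      obtain ⟨d, hd, hd1, hd2⟩ := mem_Q_of_translation sw false k hk3 h32 c' hc' hne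
      have hdA := eL_allL hk3 hd
      obtain ⟨d', hd', hdd⟩ := (hD _).1 (hNconj hh ((hD _).2 ⟨d, hd, rfl⟩))
      have hd'A := eL_allL hk3 hd'
      have hmv : φ c' * φ d * (φ c')⁻¹ = h⁻¹ * (φ c * φ d' * (φ c)⁻¹) * h := by
        rw [hcv, hv, hdd]; group
      rw [F.map_conj hc' hdA, F.map_conj hc hd'A] at hmv
      rcases hact d' hd' with e1 | e1 <;> rw [e1] at hmv
      · rw [hdd, show h⁻¹ * (h * φ d * h⁻¹) * h = φ d by group] at hmv
        exact hd1 (F.inj _ (conjC_mem sw false hc' hdA) _ hdA hmv)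
      · rw [← F.mul d' hd'A a haA, hdd, ← hha,
          show h⁻¹ * (h * φ d * h⁻¹ * (h * s * h⁻¹)) * h = φ d * s by group, ← F.map_s,
          F.mul d hdA 96 s_mem_allL] at hmv
        exact hd2 (F.inj _ (conjC_mem sw false hc' hdA) _
          (mem_allL.2 (mulC_lt sw false d hdA 96 s_mem_allL)) hmv)
    have hcqL : c' ∈ qL := of_decide_eq_true ((isQ_iff c' hc').symm.trans hcQ)
    have hcc : mulC sw false c c = 0 ∧ c ≠ 0 := by simp [isI] at hci; exact ⟨hci.2, hci.1⟩
    have hvD : ∀ d ∈ D, φ c ≠ d := by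
      intro d hd e1
      obtain ⟨c1, hc1, e2⟩ := (hD d).1 hd
      rw [← F.inj c1 (eL_allL hk3 hc1) c hc (e2.trans e1.symm)] at hcq
      have := (qL_spec c1 (eL_qL hk3 hc1)).2
      rw [hcq] at this
      exact absurd this (by simp)
    have hbk : φ c = h * φ c' * h⁻¹ := by rw [hcv, hv]; group
    have hc'E : c' ∉ eL k := fun hin => hvD _ (hNconj hh ((hD _).2 ⟨c', hin, rfl⟩)) hbk
    obtain ⟨hb0, hb96⟩ := eL_base hk3
    have hc'R : c' ∈ rL := rL_of_isR sw false c' hcqL (fun e => hc'E (e ▸ hb0))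
      (fun e => hc'E (e ▸ hb96)) (by
        refine F.inj _ (mem_allL.2 (mulC_lt sw false c' hc' c' hc')) _ zero_mem_allL ?_
        rw [← F.mul c' hc' c' hc', hcv, hv,
          show h⁻¹ * φ c * h * (h⁻¹ * φ c * h) = h⁻¹ * (φ c * φ c) * h by group,
          F.mul c hc c hc, hcc.1, F.map_zero]
        group)
    refine ⟨h, hh, c', hc'R, fun e => hc'E ?_, hcv.symm⟩
    rw [← e]; exact (rL_spec c' hc'R).2.2.2.2
  -- conjugates of `s` in `C(s)` lie in `D`
  have hKL : ∀ x : G, IsConj s x → Commute x s → x ∈ D := by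
    intro x hx hxs
    obtain ⟨c, hc, rfl⟩ := F.surj x (mem_L_iff.2 hxs)
    have ho : orderOf (φ c) = 2 := H65.two_of_isConj hos hx
    have hc0 : c ≠ 0 := fun h => by rw [h, F.map_zero, orderOf_one] at ho; omega
    have hcc : mulC sw false c c = 0 := F.inj _ (mem_allL.2 (mulC_lt sw false c hc c hc)) _
      zero_mem_allL (by rw [← F.mul c hc c hc, H65.mul_self_of_two ho, F.map_zero])
    cases hq : isQ c with
    | true =>
      by_cases h96 : c = 96
      · rw [h96, F.map_s]; exact hsD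
      have hcr := rL_of_isR sw false c (of_decide_eq_true ((isQ_iff c hc).symm.trans hq)) hc0 h96 hcc
      exact (hD _).2 ⟨c, huniq c hcr hx ▸ (rL_spec c hcr).2.2.2.2, rfl⟩
    | false =>
      exfalso
      obtain ⟨h, hh, c', hc', hkc, e1⟩ := hout c hc (by simp [isI, hc0, hcc]) hq
      exact hkc (huniq c' hc' (hx.trans (isConj_iff.2 ⟨h⁻¹, by rw [inv_inv, e1]⟩)))
  have hKD : ∀ x d : G, IsConj s x → d ∈ D → d ≠ 1 → Commute x d → x ∈ D := by
    intro x d hx hd h1 hxd
    obtain ⟨h, hh, rfl⟩ := htr d hd h1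
    have := hKL (h⁻¹ * x * h) (hx.trans (isConj_iff.2 ⟨h⁻¹, by rw [inv_inv]⟩)) (by
      show _ = _
      calc h⁻¹ * x * h * s = h⁻¹ * (x * (h * s * h⁻¹)) * h := by group
        _ = h⁻¹ * (h * s * h⁻¹ * x) * h := by rw [hxd.eq]
        _ = s * (h⁻¹ * x * h) := by group)
    have := hNconj hh this
    rwa [show h * (h⁻¹ * x * h) * h⁻¹ = x by group] at this
  -- `D` is a trivial intersection set
  have hTI : ∀ g d : G, d ∈ D → d ≠ 1 → g * d * g⁻¹ ∈ D → g ∈ N := by
    intro g d hd h1 hgd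
    obtain ⟨h, hh, rfl⟩ := htr d hd h1
    obtain ⟨h', hh', e1⟩ := htr _ hgd (by
      intro e; apply h1
      calc h * s * h⁻¹ = g⁻¹ * (g * (h * s * h⁻¹) * g⁻¹) * g := by group
        _ = 1 := by rw [e]; group)
    have hL : h'⁻¹ * g * h ∈ N := hLN (mem_L_iff.2 (by
      show _ = _
      calc h'⁻¹ * g * h * s = h'⁻¹ * (g * (h * s * h⁻¹) * g⁻¹) * (g * h) := by group
        _ = h'⁻¹ * (h' * s * h'⁻¹) * (g * h) := by rw [e1]
        _ = s * (h'⁻¹ * g * h) := by group))
    have := mul_mem (mul_mem hh' hL) (inv_mem hh)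
    rwa [show h' * (h'⁻¹ * g * h) * h⁻¹ = g by group] at this
  -- the centralizer of an involution of `Q` outside `D`
  have hCy : ∀ c ∈ rL, kIx c ≠ k → ∀ g, Commute g (φ c) → g ∈ N := by
    intro c hc hkc
    obtain ⟨⟨d0, hd0, hd0c⟩, ⟨d1, hd1, hd10, hd196, hd1c⟩⟩ := centre_of_R sw false k hk3 h32 c hc hkc
    have hcA := rL_allL hc
    have hy32 : r32 sw c = true := by rw [hsw]; rfl
    set y := φ c with hy
    set H := Subgroup.centralizer ({y} : Set G) with hH
    have hfixs : ∀ g ∈ N, Commute g y → g * s * g⁻¹ = s := by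
      intro g hg hgy
      have hd0A := eL_allL hk3 hd0
      have hm : y * φ d0 * y⁻¹ = φ d0 * s := by
        rw [hy, F.map_conj hcA hd0A, hd0c, ← F.mul d0 hd0A 96 s_mem_allL, F.map_s]
      have hgd : g * φ d0 * g⁻¹ ∈ D := hNconj hg ((hD _).2 ⟨d0, hd0, rfl⟩)
      obtain ⟨e0, he0, e0eq⟩ := (hD _).1 hgd
      have hgQ : g * φ d0 * g⁻¹ ∈ Q :=
        e0eq ▸ (F.mem_Q e0 (eL_allL hk3 he0)).2 (eL_qL hk3 he0)
      have hyQ : y ∈ Q := (F.mem_Q c hcA).2 (rL_qL hc)
      have hm' : y * (g * φ d0 * g⁻¹) = (g * φ d0 * g⁻¹) * y * (g * s * g⁻¹) := by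
        have hys : s * y = y * s := (F.s_comm (F.Q_le hyQ)).symm.eq
        have h2 : y * φ d0 = φ d0 * s * y := by rw [← hm, inv_mul_cancel_right]
        have hgi : y = g * y * g⁻¹ := by rw [hgy.eq, mul_inv_cancel_right]
        calc y * (g * φ d0 * g⁻¹) = g * y * g⁻¹ * (g * φ d0 * g⁻¹) := by rw [← hgi]
          _ = g * (y * φ d0) * g⁻¹ := by group
          _ = g * (φ d0 * (s * y)) * g⁻¹ := by rw [h2, mul_assoc (φ d0)]
          _ = g * φ d0 * g⁻¹ * (g * y * g⁻¹) * (g * s * g⁻¹) := by rw [hys]; group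
          _ = g * φ d0 * g⁻¹ * y * (g * s * g⁻¹) := by rw [← hgi]
      rcases F.comm_cases hyQ hgQ with h3 | h3 <;> rw [hm'] at h3
      · exfalso
        have h4 : g * s * g⁻¹ = 1 := by simpa using h3
        exact F.s_ne (by
          calc s = g⁻¹ * (g * s * g⁻¹) * g := by group
            _ = 1 := by rw [h4]; group)
      · exact mul_left_cancel h3
    have hsy : Commute s y := (F.s_comm (F.mem c hcA)).symm
    have hd1A := eL_allL hk3 hd1
    have hry : Commute (φ d1) y := ((F.commute_iff hcA hd1A).2 hd1c).symm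
    let sH : H := ⟨s, mem_L_iff.2 hsy⟩
    let rH : H := ⟨φ d1, mem_L_iff.2 hry⟩
    have hsH : sH * sH = 1 := Subtype.ext F.ss
    have hiso : Cfsg.IsIsolatedInvolution sH := by
      refine ⟨H65.two_iff.2 ⟨hsH, fun e => F.s_ne (congrArg Subtype.val e)⟩, fun g hg => ?_⟩
      have hcomm : Commute ((g : G) * s * (g : G)⁻¹) s := by
        have := congrArg Subtype.val hg.eq
        exact this.symm
      have hgsD : (g : G) * s * (g : G)⁻¹ ∈ D := hKL _ (isConj_iff.2 ⟨g, rfl⟩) hcomm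
      exact Subtype.ext (hfixs _ (hTI _ s hsD F.s_ne hgsD) (mem_L_iff.1 g.2))
    have hz := H85.zStar hiso
    -- the odd core of the centralizer is trivial
    set O := Cfsg.pPrimeCore 2 H with hO
    haveI hOn : O.Normal := H1.pPrimeCore_normal' 2 H
    have hodd : Odd (Nat.card O) := (Nat.coprime_two_right).1 (H1.card_pPrimeCore_coprime 2 H)
    have hOodd : ∀ x ∈ O, Odd (orderOf x) := fun x hx =>
      hodd.of_dvd_nat (Subgroup.orderOf_dvd_natCard _ hx)
    have hsr : sH * rH = rH * sH := Subtype.ext (F.s_comm (F.mem d1 hd1A)).symm.eq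
    have hr1 : φ d1 ≠ 1 := fun h => hd10 (F.inj d1 hd1A 0 zero_mem_allL (h.trans F.map_zero.symm))
    have hrs : s * φ d1 ≠ 1 := fun h => hd196 (F.inj d1 hd1A 96 s_mem_allL (by
      rw [F.map_s, eq_inv_of_mul_eq_one_right h, inv_eq_of_mul_eq_one_right F.ss]))
    have hfixO : ∀ x ∈ O, ∀ w ∈ D, w ≠ 1 → Commute (x : G) w → x = 1 := by
      intro x hx w hw hw1 hxw
      have hxN := hcent w hw hw1 _ hxw
      have hxs : Commute (x : G) s := mul_inv_eq_iff_eq_mul.1 (hfixs _ hxN (mem_L_iff.1 x.2))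
      refine Subtype.ext (F.odd_eq_one hc hy32 hxs (mem_L_iff.1 x.2) ?_)
      rw [Subgroup.orderOf_coe]
      exact hOodd x hx
    have hObot : O = ⊥ := by
      rw [eq_bot_iff]
      refine H66.le_of_centralizers_fourGroup hOodd hsH
        (Subtype.ext (show φ d1 * φ d1 = 1 by
          rw [F.mul d1 hd1A d1 hd1A, (eL_elem sw false k hk3 d1 hd1 d1 hd1).2.2, F.map_zero]))
        hsr (fun x hx => hOn.conj_mem x hx sH) (fun x hx => hOn.conj_mem x hx rH)
        (fun x hx hc' => Subgroup.mem_bot.2 (hfixO x hx s hsD F.s_ne (congrArg Subtype.val hc'.eq)))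
        (fun x hx hc' => Subgroup.mem_bot.2 (hfixO x hx _ ((hD _).2 ⟨d1, hd1, rfl⟩) hr1
          (congrArg Subtype.val hc'.eq)))
        (fun x hx hc' => Subgroup.mem_bot.2 (hfixO x hx _ (mul_mem hsD ((hD _).2 ⟨d1, hd1, rfl⟩)) hrs
          (congrArg Subtype.val hc'.eq)))
    intro g hg
    have h := hz ⟨g, mem_L_iff.2 hg⟩
    rw [← hO, hObot, Subgroup.mem_bot] at h
    have h2 := congrArg Subtype.val h
    simp only [Subgroup.coe_mul, Subgroup.coe_inv, Subgroup.coe_one, sH] at h2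
    refine hLN (mem_L_iff.2 ?_)
    show g * s = s * g
    rw [mul_inv_eq_one, mul_inv_eq_iff_eq_mul] at h2
    exact h2.symm
  -- the centralizer of every involution of `N` outside the class
  have hCN : ∀ z ∈ N, orderOf z = 2 → ¬ IsConj s z → ∀ g, Commute g z → g ∈ N := by
    intro z hzN hz2 hzK g hg
    -- `z` fixes a nontrivial element of `D`
    obtain ⟨d, hd, hd1, hzd⟩ : ∃ d ∈ D, d ≠ 1 ∧ Commute z d := by
      set d := z * s * z⁻¹ with hd
      by_cases hds : d = s
      · exact ⟨s, hsD, F.s_ne, mul_inv_eq_iff_eq_mul.1 hds⟩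
      · refine ⟨s * d, mul_mem hsD (hNconj hzN hsD), fun h => hds ?_, ?_⟩
        · rw [eq_inv_of_mul_eq_one_right h, inv_eq_of_mul_eq_one_right F.ss]
        · have hzz : z * z = 1 := H65.mul_self_of_two hz2
          obtain ⟨a, ha, ea⟩ := (hD d).1 (hNconj hzN hsD)
          have hds' : d * s = s * d := ea ▸ (F.s_comm (F.mem a (eL_allL hk3 ha))).eq
          show z * (s * d) = s * d * z
          calc z * (s * d) = z * s * z⁻¹ * (z * z * s * (z * z)⁻¹) * z := by rw [hd]; group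
            _ = d * s * z := by rw [hzz, hd]; group
            _ = s * d * z := by rw [hds']
    obtain ⟨h, hh, rfl⟩ := htr d hd hd1
    obtain ⟨c, hc, hcz⟩ := F.surj (h⁻¹ * z * h) (mem_L_iff.2 (by
      show _ = _
      calc h⁻¹ * z * h * s = h⁻¹ * (z * (h * s * h⁻¹)) * h := by group
        _ = h⁻¹ * (h * s * h⁻¹ * z) * h := by rw [hzd.eq]
        _ = s * (h⁻¹ * z * h) := by group))
    have hconj : IsConj z (φ c) := isConj_iff.2 ⟨h⁻¹, by rw [inv_inv, hcz]⟩
    have ho : orderOf (φ c) = 2 := H65.two_of_isConj hz2 hconj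
    have hcK : ¬ IsConj s (φ c) := fun h' => hzK (h'.trans hconj.symm)
    have hc0 : c ≠ 0 := fun h => by rw [h, F.map_zero, orderOf_one] at ho; omega
    have h96 : c ≠ 96 := fun h => hcK (by rw [h, F.map_s])
    have hcc : mulC sw false c c = 0 := F.inj _ (mem_allL.2 (mulC_lt sw false c hc c hc)) _
      zero_mem_allL (by rw [← F.mul c hc c hc, H65.mul_self_of_two ho, F.map_zero])
    obtain ⟨m, hm, c', hc', hkc, e1⟩ : ∃ m ∈ N, ∃ c' ∈ rL, kIx c' ≠ k ∧ m⁻¹ * z * m = φ c' := by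
      cases hq : isQ c with
      | true =>
        have hcr := rL_of_isR sw false c (of_decide_eq_true ((isQ_iff c hc).symm.trans hq)) hc0 h96 hcc
        refine ⟨h, hh, c, hcr, fun e => hcK ?_, hcz.symm⟩
        exact hDconj _ ((hD _).2 ⟨c, e ▸ (rL_spec c hcr).2.2.2.2, rfl⟩)
          (fun e1 => by rw [e1, orderOf_one] at ho; omega)
      | false =>
        obtain ⟨m, hm, c', hc', hkc, e1⟩ := hout c hc (by simp [isI, hc0, hcc]) hq
        refine ⟨h * m, mul_mem hh hm, c', hc', hkc, ?_⟩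
        rw [← e1, hcz]; group
    have := hCy c' hc' hkc (m⁻¹ * g * m) (by
      rw [← e1]
      show _ = _
      calc m⁻¹ * g * m * (m⁻¹ * z * m) = m⁻¹ * (g * z) * m := by group
        _ = m⁻¹ * (z * g) * m := by rw [hg.eq]
        _ = m⁻¹ * z * m * (m⁻¹ * g * m) := by group)
    have := mul_mem (mul_mem hm this) (inv_mem hm)
    rwa [show m * (m⁻¹ * g * m) * m⁻¹ = g by group] at this
  -- every conjugate of `s` lies in `D`
  have hKall : ∀ x : G, IsConj s x → x ∈ D := by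
    intro x hx
    obtain ⟨c, hc, hkc⟩ := rL_exists_other k hk3
    have hcA := rL_allL hc
    have hyo : orderOf (φ c) = 2 := H65.two_iff.2 ⟨by
      rw [F.mul c hcA c hcA, (rL_sq sw false c hc).1, F.map_zero],
      fun h => (rL_spec c hc).2.2.1 (F.inj c hcA 0 zero_mem_allL (h.trans F.map_zero.symm))⟩
    have hxo : orderOf x = 2 := H65.two_of_isConj hos hx
    have hnc : ¬ IsConj x (φ c) := fun h => hkc (huniq c hc (hx.trans h))
    obtain ⟨-, z, hz2, hzx, hzy, -⟩ := H65.exists_commuting_of_not_isConj hxo hyo hnc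
    have hyN : φ c ∈ N := hLN (F.mem c hcA)
    have hzN : z ∈ N := hCy c hc hkc z hzy
    by_cases hzK : IsConj s z
    · obtain ⟨d, hd, hd1, hzd⟩ : ∃ d ∈ D, d ≠ 1 ∧ Commute z d := by
        obtain ⟨-, d1, hd1, hd10, -, hd1c⟩ := centre_of_R sw false k hk3 h32 c hc hkc
        -- `z` permutes `D`, so it fixes a nontrivial element
        set d := z * s * z⁻¹ with hd
        by_cases hds : d = s
        · exact ⟨s, hsD, F.s_ne, mul_inv_eq_iff_eq_mul.1 hds⟩
        · refine ⟨s * d, mul_mem hsD (hNconj hzN hsD), fun h => hds ?_, ?_⟩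
          · rw [eq_inv_of_mul_eq_one_right h, inv_eq_of_mul_eq_one_right F.ss]
          · have hzz : z * z = 1 := H65.mul_self_of_two hz2
            obtain ⟨a, ha, ea⟩ := (hD d).1 (hNconj hzN hsD)
            have hds' : d * s = s * d := ea ▸ (F.s_comm (F.mem a (eL_allL hk3 ha))).eq
            show z * (s * d) = s * d * z
            calc z * (s * d) = z * s * z⁻¹ * (z * z * s * (z * z)⁻¹) * z := by rw [hd]; group
              _ = d * s * z := by rw [hzz, hd]; group
              _ = s * d * z := by rw [hds']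
      have hzD : z ∈ D := hKD z d hzK hd hd1 hzd
      exact hKD x z hx hzD (H65.ne_one_of_two hz2) hzx.symm
    · have hxN : x ∈ N := hCN z hzN hz2 hzK x hzx.symm
      obtain ⟨d, hd, hd1, hxd⟩ : ∃ d ∈ D, d ≠ 1 ∧ Commute x d := by
        set d := x * s * x⁻¹ with hd
        by_cases hds : d = s
        · exact ⟨s, hsD, F.s_ne, mul_inv_eq_iff_eq_mul.1 hds⟩
        · refine ⟨s * d, mul_mem hsD (hNconj hxN hsD), fun h => hds ?_, ?_⟩
          · rw [eq_inv_of_mul_eq_one_right h, inv_eq_of_mul_eq_one_right F.ss]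
          · have hzz : x * x = 1 := H65.mul_self_of_two hxo
            obtain ⟨a, ha, ea⟩ := (hD d).1 (hNconj hxN hsD)
            have hds' : d * s = s * d := ea ▸ (F.s_comm (F.mem a (eL_allL hk3 ha))).eq
            show x * (s * d) = s * d * x
            calc x * (s * d) = x * s * x⁻¹ * (x * x * s * (x * x)⁻¹) * x := by rw [hd]; group
              _ = d * s * x := by rw [hzz, hd]; group
              _ = s * d * x := by rw [hds']
      exact hKD x d hx hd hd1 hxd
  haveI hDn : D.Normal := ⟨fun d hd g => by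
    by_cases h1 : d = 1
    · rw [h1, mul_one, mul_inv_cancel]; exact one_mem D
    · exact hKall _ ((hDconj d hd h1).trans (isConj_iff.2 ⟨g, rfl⟩))⟩
  obtain ⟨h1, h2, h3, h4⟩ := F.quotient_psl hk3 D hD hDconj
  exact ⟨D, hDn, h1, h2, h3, h4⟩

end Frame

end H55.SThree
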