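import Cfsg.Agent.H55.SThree.Coord

/-!
The four multiplication tables: every such centralizer carries a `Frame`.
-/

set_option autoImplicit false

namespace H55.SThree

variable {G : Type*} [Group G]

theorem act_cases : ∀ b < 2, ∀ n < 3, ∀ n' < 3,
    (n + (if b = 1 then 3 - n' else n')) % 3 = (n + (if b = 1 then 2 * n' else n')) % 3 := by decide

theorem rotN_lt : ∀ n < 3, ∀ u < 4, rotN n u < 4 ∧ rot u < 4 := by decide

theorem nz_add : ∀ u < 4, ∀ v < 4, (sgnT u u + sgnT v v) % 2 = 1 →
    (u = 0 ∧ 0 < v) ∨ (0 < u ∧ v = 0) := by decide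

namespace Raw

variable {s x t : G} {Q : Subgroup G}

/-- Triples commuting elementwise, with the inverting element adapted to them. -/
structure Adapted (s : G) (Q : Subgroup G) (x t i a : G) (sw : Bool) : Prop where
  raw : Raw s Q x t
  mi : i ∈ Q
  ma : a ∈ Q
  ti : Triple s x i
  ta : Triple s x a
  comm : ∀ u < 4, ∀ v < 4, Commute (unit' x i u) (unit' x a v)
  act_i : t * i * t⁻¹ = s * (if sw then a else i)
  act_a : t * a * t⁻¹ = s * (if sw then i else a)

theorem conj_body (h : Raw s Q x t) (g i a : G) (hgs : g * s = s * g) (z u v : ℕ) :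
    g * (s ^ z * unit' x i u * unit' x a v) * g⁻¹ =
      s ^ z * (g * unit' x i u * g⁻¹) * (g * unit' x a v * g⁻¹) := by
  rw [conj_mul', conj_mul']
  congr 2
  rw [(Commute.pow_right hgs z).eq, mul_inv_cancel_right]

theorem exists_adapted [Finite G] (h : Raw s Q x t) :
    ∃ t' i a sw, Adapted s Q x t' i a sw := by
  obtain ⟨q, hq, hq2⟩ := h.exists_order_four
  obtain ⟨i, hi, T⟩ : ∃ i ∈ Q, Triple s x i := by
    rcases h.exists_triple hq hq2 with T | T
    · exact ⟨q, hq, T⟩
    · exact ⟨q * s, Q.mul_mem hq h.s_mem, T⟩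
  obtain ⟨a, ha, A, hc⟩ := h.exists_second T hi
  have hTQ : t * i * t⁻¹ ∈ Q := h.t_norm i hi
  have decomp : ∀ y ∈ Q, y * y = s → ∃ z < 2, ∃ u < 4, ∃ v < 4,
      y = s ^ z * unit' x i u * unit' x a v ∧ ((u = 0 ∧ 0 < v) ∨ (0 < u ∧ v = 0)) := by
    intro y hy hy2
    obtain ⟨z, hz, u, hu, v, hv, e⟩ := h.pair_surj T A hi ha hc y hy
    refine ⟨z, hz, u, hu, v, hv, e, nz_add u hu v hv ?_⟩
    have hsq : y * y = s ^ (sgnT u u + sgnT v v) := by
      have cs := h.scomm_pow
      rw [e]
      calc s ^ z * unit' x i u * unit' x a v * (s ^ z * unit' x i u * unit' x a v)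
          = (s ^ z * s ^ z) * ((unit' x i u * unit' x i u) * (unit' x a v * unit' x a v)) := by
            rw [mul_assoc (s ^ z) (unit' x i u), mul_assoc (s ^ z), mul_assoc (s ^ z),
              ← mul_assoc (unit' x i u * unit' x a v),
              ← cs z (Q.mul_mem (h.unit_mem hi u) (h.unit_mem ha v))]
            simp only [mul_assoc]
            rw [← mul_assoc (unit' x a v) (unit' x i u), ← (hc u hu v hv).eq]
            simp only [mul_assoc]
        _ = s ^ (sgnT u u + sgnT v v) := by
            rw [← pow_add, h.spow_eq, show (z + z) % 2 = 0 by omega, pow_zero, one_mul,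
              T.unit_mul h.xs h.ss u u hu hu, A.unit_mul h.xs h.ss v v hv hv, Nat.xor_self,
              Nat.xor_self, unit'_zero, unit'_zero, mul_one, mul_one, ← pow_add]
    rw [hy2, h.spow_eq] at hsq
    rcases (show (sgnT u u + sgnT v v) % 2 = 0 ∨ (sgnT u u + sgnT v v) % 2 = 1 by omega) with
      h0 | h1
    · rw [h0, pow_zero] at hsq; exact absurd hsq h.s_ne
    · exact h1
  have hts : t * s * t⁻¹ = s := by rw [h.ts, mul_inv_cancel_right]
  obtain ⟨z, hz, u, hu, v, hv, e, hcase⟩ := decomp _ hTQ (by rw [← conj_mul', T.sq, hts])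
  rcases hcase with ⟨rfl, hv0⟩ | ⟨hu0, rfl⟩
  · -- the factors are exchanged
    rw [unit'_zero, mul_one] at e
    refine ⟨t, i, s * (t * i * t⁻¹), true, h, hi, Q.mul_mem h.s_mem hTQ, T, ?_, ?_, ?_, ?_⟩
    · have hxs : x * s * x⁻¹ = s := by rw [h.xs, mul_inv_cancel_right]
      have hxt : ∀ g : G, x * (t * g * t⁻¹) * x⁻¹ = t * (x⁻¹ * g * x) * t⁻¹ := fun g => by
        rw [show t * (x⁻¹ * g * x) * t⁻¹ = (t * x * t⁻¹)⁻¹ * (t * g * t⁻¹) * (t * x * t⁻¹) by group,
          h.tx, inv_inv]
      have xw : ∀ v < 4, x⁻¹ * unit' x i (rot v) * x = unit' x i v := fun v hv => by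
        rw [← T.x_unit h.x3 v hv]; group
      have e3 := xw 3 (by omega)
      rw [show rot 3 = 1 from rfl, unit'_one] at e3
      have e2 := xw 2 (by omega)
      rw [show rot 2 = 3 from rfl] at e2
      have f1 : x * (s * (t * i * t⁻¹)) * x⁻¹ = s * (t * unit' x i 3 * t⁻¹) := by
        rw [conj_mul', hxs, hxt, e3]
      have f2 : x * (s * (t * unit' x i 3 * t⁻¹)) * x⁻¹ = s * (t * unit' x i 2 * t⁻¹) := by
        rw [conj_mul', hxs, hxt, e2]
      have cs : ∀ g ∈ Q, ∀ g' ∈ Q, s * g * (s * g') = g * g' := fun g hg g' hg' => by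
        rw [h.s_comm g hg, mul_assoc g s, ← mul_assoc s s, h.ss, one_mul]
      have k31 := T.unit_mul h.xs h.ss 3 1 (by omega) (by omega)
      have k13 := T.unit_mul h.xs h.ss 1 3 (by omega) (by omega)
      rw [show sgnT 3 1 = 0 from rfl, show (3 : ℕ) ^^^ 1 = 2 from rfl, pow_zero, one_mul,
        unit'_one] at k31
      rw [show sgnT 1 3 = 1 from rfl, show (1 : ℕ) ^^^ 3 = 2 from rfl, pow_one, unit'_one] at k13
      have h3Q := h.t_norm _ (h.unit_mem hi 3)
      refine ⟨?_, h.s_comm _ (Q.mul_mem h.s_mem hTQ), ?_, ?_⟩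
      · rw [cs _ hTQ _ hTQ, ← conj_mul', T.sq, hts]
      · rw [f1, cs _ h3Q _ hTQ, cs _ hTQ _ h3Q, ← conj_mul', ← conj_mul', k31, k13,
          conj_mul' t s, hts, h.s_comm _ (h.t_norm _ (h.unit_mem hi 2)), mul_assoc _ s s, h.ss, mul_one]
      · rw [f1, f2, cs _ hTQ _ h3Q, ← conj_mul', k13, conj_mul' t s, hts]
    · intro u hu w _
      have key : ∀ g ∈ Q, (∀ u < 4, Commute (unit' x i u) g) →
          ∀ u < 4, Commute (unit' x i u) (s * g) := fun g hg hh u hu =>
        (show Commute (unit' x i u) s from (h.s_comm _ (h.unit_mem hi u)).symm).mul_right (hh u hu)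
      have hb : ∀ u < 4, Commute (unit' x i u) (t * i * t⁻¹) := fun u hu => by
        rw [e]
        exact (show Commute (unit' x i u) (s ^ z) from (h.scomm_pow z (h.unit_mem hi u)).symm
          ).mul_right (hc u hu v hv)
      have h1 := key _ hTQ hb
      have h2 : ∀ u < 4, Commute (unit' x i u) (x * (s * (t * i * t⁻¹)) * x⁻¹) := fun u hu => by
        rw [conj_mul', show x * s * x⁻¹ = s by rw [h.xs, mul_inv_cancel_right], e, conj_mul',
          show x * s ^ z * x⁻¹ = s ^ z by rw [(Commute.pow_right h.xs z).eq, mul_inv_cancel_right],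
          A.x_unit h.x3 v hv]
        exact (show Commute (unit' x i u) s from (h.s_comm _ (h.unit_mem hi u)).symm).mul_right
          ((show Commute (unit' x i u) (s ^ z) from (h.scomm_pow z (h.unit_mem hi u)).symm
          ).mul_right (hc u hu (rot v) (rotN_lt 0 (by omega) v hv).2))
      conv => arg 2; unfold unit'
      split_ifs
      · exact Commute.one_right _
      · exact h1 u hu
      · exact h2 u hu
      · exact (h1 u hu).mul_right (h2 u hu)
    · rw [if_pos rfl, ← mul_assoc, h.ss, one_mul]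
    · rw [if_pos rfl, conj_mul', hts,
        show t * (t * i * t⁻¹) * t⁻¹ = (t * t) * i * (t * t)⁻¹ by group]
      rcases h.tt with e' | e'
      · rw [e', one_mul, inv_one, mul_one]
      · rw [e', h.s_comm i hi, mul_inv_cancel_right, h.s_comm i hi]
  · -- the factors are stabilised
    rw [unit'_zero, mul_one] at e
    obtain ⟨t', h', e'⟩ : ∃ t', Raw s Q x t' ∧ t' * i * t'⁻¹ = s * i := by
      have hxz : x * s ^ z * x⁻¹ = s ^ z := by
        rw [(Commute.pow_right h.xs z).eq, mul_inv_cancel_right]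
      have step : ∀ (t₁ : G) (w : ℕ), w < 4 → t₁ * i * t₁⁻¹ = s ^ z * unit' x i w →
          x * t₁ * i * (x * t₁)⁻¹ = s ^ z * unit' x i (rot w) := fun t₁ w hw he => by
        rw [show x * t₁ * i * (x * t₁)⁻¹ = x * (t₁ * i * t₁⁻¹) * x⁻¹ by group, he, conj_mul', hxz,
          T.x_unit h.x3 w hw]
      rcases (show u = 1 ∨ u = 2 ∨ u = 3 by omega) with rfl | rfl | rfl
      · rw [unit'_one] at e; exact ⟨t, h, h.t_neg hi T e⟩
      · have e1 := step t 2 (by omega) e
        have e2 := step (x * t) (rot 2) (by decide) e1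
        rw [show rot (rot 2) = 1 from rfl, unit'_one] at e2
        exact ⟨_, h.rotate.rotate, h.rotate.rotate.t_neg hi T e2⟩
      · have e1 := step t 3 (by omega) e
        rw [show rot 3 = 1 from rfl, unit'_one] at e1
        exact ⟨_, h.rotate, h.rotate.t_neg hi T e1⟩
    -- now the image of the second triple
    obtain ⟨z', hz', u', hu', v', hv', e2, hcase'⟩ := decomp _ (h'.t_norm a ha)
      (by rw [← conj_mul', A.sq, h'.ts, mul_inv_cancel_right])
    have hcom : ∀ w < 4, Commute (t' * a * t'⁻¹) (t' * unit' x i w * t'⁻¹) := fun w hw => by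
      show _ = _
      have := (hc w hw 1 (by omega)).eq
      rw [unit'_one] at this
      rw [← conj_mul', ← conj_mul', this]
    have hu'0 : u' = 0 := by
      have c : ∀ w, 1 ≤ w → w < 4 → Commute (t' * a * t'⁻¹) (unit' x i (refl' w)) := by
        intro w _ hw
        have := hcom w hw
        rw [h'.t_unit hi T T e' w hw] at this
        have hs : Commute (t' * a * t'⁻¹) (s ^ nz w) :=
          (h'.scomm_pow (nz w) (h'.t_norm a ha)).symm
        have hh := hs.inv_right.mul_right this
        rwa [inv_mul_cancel_left] at hh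
      have c1 := c 1 le_rfl (by omega)
      have c2 := c 3 (by omega) (by omega)
      rw [show refl' 1 = 1 from rfl, unit'_one] at c1
      rw [show refl' 3 = 2 from rfl, unit'_two] at c2
      rw [e2] at c1 c2
      refine h.commutant_inter T hi hu' (z := z') ?_ ?_
      · have hv1 := (hc 1 (by omega) v' hv').symm
        rw [unit'_one] at hv1
        have := c1.mul_left hv1.inv_left
        rwa [mul_inv_cancel_right] at this
      · have hv1 := (hc 2 (by omega) v' hv').symm
        rw [unit'_two] at hv1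
        have := c2.mul_left hv1.inv_left
        rwa [mul_inv_cancel_right] at this
    subst hu'0
    rw [unit'_zero, mul_one] at e2
    have hxa : ∀ w < 4, x⁻¹ * (s ^ z' * unit' x a (rot w)) * x = s ^ z' * unit' x a w :=
      fun w hw => by
        rw [← A.x_unit h.x3 w hw,
          show x⁻¹ * (s ^ z' * (x * unit' x a w * x⁻¹)) * x = (x⁻¹ * s ^ z' * x) * unit' x a w by
            group]
        congr 1
        rw [mul_assoc, ← (Commute.pow_right h.xs z').eq, inv_mul_cancel_left]
    have hconj : ∀ g : G, t' * (x * g * x⁻¹) * t'⁻¹ = x⁻¹ * (t' * g * t'⁻¹) * x := fun g => by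
      rw [show t' * (x * g * x⁻¹) * t'⁻¹ =
          (t' * x * t'⁻¹) * (t' * g * t'⁻¹) * (t' * x * t'⁻¹)⁻¹ by group, h'.tx, inv_inv]
    obtain ⟨a', ha', A', hc', ea'⟩ : ∃ a' ∈ Q, Triple s x a' ∧
        (∀ u < 4, ∀ v < 4, Commute (unit' x i u) (unit' x a' v)) ∧
        t' * a' * t'⁻¹ = s * a' := by
      have hcx : ∀ b ∈ Q, Triple s x b → (∀ u < 4, ∀ v < 4, Commute (unit' x i u) (unit' x b v)) →
          ∀ u < 4, ∀ v < 4, Commute (unit' x i u) (unit' x (x * b * x⁻¹) v) := by
        intro b _ B hb u hu v hv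
        have hone : Commute (unit' x i u) (x * b * x⁻¹) := by
          have := hb u hu 2 (by omega); rwa [unit'_two] at this
        have htwo : Commute (unit' x i u) (x * (x * b * x⁻¹) * x⁻¹) := by
          have := hb u hu 3 (by omega); rw [unit'_three] at this; rwa [B.cyc]
        conv => arg 2; unfold unit'
        split_ifs
        · exact Commute.one_right _
        · exact hone
        · exact htwo
        · exact hone.mul_right htwo
      rcases (show v' = 1 ∨ v' = 2 ∨ v' = 3 by omega) with rfl | rfl | rfl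
      · rw [unit'_one] at e2; exact ⟨a, ha, A, hc, h'.t_neg ha A e2⟩
      · refine ⟨x * (x * a * x⁻¹) * x⁻¹, h.x_norm _ (h.x_norm a ha),
          h.triple_conj (h.triple_conj A),
          hcx _ (h.x_norm a ha) (h.triple_conj A) (hcx a ha A hc),
          h'.t_neg (h.x_norm _ (h.x_norm a ha)) (h.triple_conj (h.triple_conj A)) (z := z') ?_⟩
        rw [hconj, hconj, e2]
        have q1 := hxa 1 (by omega)
        rw [show rot 1 = 2 from rfl] at q1
        have q0 := hxa 3 (by omega)
        rw [show rot 3 = 1 from rfl] at q0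
        rw [q1, q0, A.cyc, unit'_three]
      · refine ⟨x * a * x⁻¹, h.x_norm a ha, h.triple_conj A, hcx a ha A hc,
          h'.t_neg (h.x_norm a ha) (h.triple_conj A) (z := z') ?_⟩
        rw [hconj, e2]
        have q1 := hxa 2 (by omega)
        rw [show rot 2 = 3 from rfl] at q1
        rw [q1, unit'_two]
    exact ⟨t', i, a', false, h', hi, ha', T, A', hc', by simpa using e', by simpa using ea'⟩

/-- The coordinates. -/
def coord (s x t i a : G) (c : ℕ) : G :=
  s ^ cZ c * unit' x i (cU c) * unit' x a (cV c) * (x ^ cN c * t ^ cB c)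

theorem exists_frame [Finite G] (h : Raw s Q x t) : ∃ sw e φ, Frame s Q sw e φ := by
  classical
  obtain ⟨t, i, a, sw, hr, hi, ha, T, A, hc, eti, eta⟩ := h.exists_adapted
  clear h
  rename' hr => h
  obtain ⟨e, hte⟩ : ∃ e : Bool, t * t = s ^ (if e then 1 else 0) := by
    rcases h.tt with e' | e'
    · exact ⟨false, by simpa using e'⟩
    · exact ⟨true, by simpa using e'⟩
  have hx3 : x ^ 3 = 1 := by rw [pow_succ, pow_two, h.x3]
  have hxs : ∀ n, x ^ n * s = s * x ^ n := fun n => Commute.pow_left h.xs n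
  have hW : Triple s x (if sw then a else i) ∧ Triple s x (if sw then i else a) := by
    cases sw
    · exact ⟨T, A⟩
    · exact ⟨A, T⟩
  -- conjugation of the body
  have hx1 : ∀ z, ∀ u < 4, ∀ v < 4, x * (s ^ z * unit' x i u * unit' x a v) * x⁻¹ =
      s ^ z * unit' x i (rot u) * unit' x a (rot v) := fun z u hu v hv => by
    rw [h.conj_body x i a h.xs, T.x_unit h.x3 u hu, A.x_unit h.x3 v hv]
  have hxn : ∀ n < 3, ∀ z, ∀ u < 4, ∀ v < 4, x ^ n * (s ^ z * unit' x i u * unit' x a v) =
      s ^ z * unit' x i (rotN n u) * unit' x a (rotN n v) * x ^ n := by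
    intro n hn z u hu v hv
    have step : ∀ u < 4, ∀ v < 4, x * (s ^ z * unit' x i u * unit' x a v) =
        s ^ z * unit' x i (rot u) * unit' x a (rot v) * x := fun u hu v hv => by
      rw [← hx1 z u hu v hv, inv_mul_cancel_right]
    rcases (show n = 0 ∨ n = 1 ∨ n = 2 by omega) with rfl | rfl | rfl
    · simp [rotN]
    · rw [pow_one]; exact step u hu v hv
    · rw [pow_two, mul_assoc x x, step u hu v hv, ← mul_assoc,
        step _ (rotN_lt 0 (by omega) u hu).2 _ (rotN_lt 0 (by omega) v hv).2, mul_assoc]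
      rfl
  have ht1 : ∀ z, ∀ u < 4, ∀ v < 4, t * (s ^ z * unit' x i u * unit' x a v) =
      s ^ actZ 1 z u v * unit' x i (actU sw 0 1 u v) * unit' x a (actV sw 0 1 u v) * t := by
    intro z u hu v hv
    rw [← mul_inv_eq_iff_eq_mul, h.conj_body t i a h.ts, h.t_unit hi hW.1 T eti u hu,
      h.t_unit ha hW.2 A eta v hv]
    have hm : ∀ n, ∀ g ∈ Q, s ^ n * g = g * s ^ n := fun n g hg => h.scomm_pow n hg
    rw [show actZ 1 z u v = (z + nz u + nz v) % 2 from if_pos rfl, ← h.spow_eq, pow_add, pow_add]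
    cases sw
    · simp only [actU, actV, rotN, if_true, Bool.false_eq_true, if_false]
      simp only [mul_assoc]
      rw [← mul_assoc (unit' x i (refl' u)) (s ^ nz v), ← hm _ _ (h.unit_mem hi _)]
      simp only [mul_assoc]
    · simp only [actU, actV, rotN, if_true, if_false]
      simp only [mul_assoc]
      rw [← mul_assoc (unit' x a (refl' u)) (s ^ nz v), ← hm _ _ (h.unit_mem ha _),
        mul_assoc (s ^ nz v), (hc _ (sgn_cases v hv).2.2 _ (sgn_cases u hu).2.2).eq]
  have hact : ∀ n < 3, ∀ b < 2, ∀ z < 2, ∀ u < 4, ∀ v < 4,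
      x ^ n * t ^ b * (s ^ z * unit' x i u * unit' x a v) = s ^ actZ b z u v *
        unit' x i (actU sw n b u v) * unit' x a (actV sw n b u v) * (x ^ n * t ^ b) := by
    intro n hn b hb z hz u hu v hv
    have hlt := actions_lt sw 0 (by omega) 1 (by omega) u hu v hv
    rcases (show b = 0 ∨ b = 1 by omega) with rfl | rfl
    · rw [pow_zero, mul_one, hxn n hn z u hu v hv]
      rfl
    · rw [pow_one, mul_assoc, ht1 z u hu v hv, ← mul_assoc (x ^ n),
        hxn n hn _ _ hlt.1 _ hlt.2, mul_assoc]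
      rfl
  have hxt : ∀ n, t * x ^ n = x ^ (2 * n) * t := fun n => by
    have e1 : t * x * t⁻¹ = x ^ 2 := by
      rw [h.tx]; exact inv_eq_of_mul_eq_one_right (by rw [← pow_succ', hx3])
    rw [← mul_inv_eq_iff_eq_mul, ← conj_pow, e1, ← pow_mul]
  have htail : ∀ n < 3, ∀ b < 2, ∀ n' < 3, ∀ b' < 2, x ^ n * t ^ b * (x ^ n' * t ^ b') =
      s ^ (if e then b * b' else 0) * (x ^ ((n + (if b = 1 then 3 - n' else n')) % 3) *
        t ^ ((b + b') % 2)) := by
    intro n hn b hb n' hn' b' hb'
    rw [act_cases b hb n hn n' hn', ← pow_eq_pow_mod _ hx3]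
    rcases (show b = 0 ∨ b = 1 by omega) with rfl | rfl
    · simp only [zero_ne_one, if_false, pow_zero, mul_one, zero_mul, ite_self, one_mul, zero_add,
        Nat.mod_eq_of_lt hb', pow_add, mul_assoc]
    · rw [pow_one, if_pos rfl, mul_assoc, ← mul_assoc t, hxt, mul_assoc, ← mul_assoc, ← pow_add]
      rcases (show b' = 0 ∨ b' = 1 by omega) with rfl | rfl
      · cases e <;> simp
      · cases e
        · simp at hte; simp [hte]
        · simp at hte
          simp only [pow_one, hte, if_true, mul_one, Nat.reduceAdd, Nat.mod_self, pow_zero]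
          exact hxs _
  have hspow : ∀ n, ∀ g ∈ Q, s ^ n * g = g * s ^ n := fun n g hg => h.scomm_pow n hg
  have hmul : ∀ c ∈ allL, ∀ d ∈ allL,
      coord s x t i a c * coord s x t i a d = coord s x t i a (mulC sw e c d) := by
    intro c hc' d hd'
    obtain ⟨-, hcz, hcu, hcv, hcn, hcb⟩ := enc_coord c hc'
    obtain ⟨-, hdz, hdu, hdv, hdn, hdb⟩ := enc_coord d hd'
    have hlt := actions_lt sw (cN c) hcn (cB c) hcb (cU d) hdu (cV d) hdv
    set u' := actU sw (cN c) (cB c) (cU d) (cV d) with hu'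
    set v' := actV sw (cN c) (cB c) (cU d) (cV d) with hv'
    have hco := coord_enc ((cZ c + actZ (cB c) (cZ d) (cU d) (cV d) + sgnT (cU c) u' +
        sgnT (cV c) v' + (if e then cB c * cB d else 0)) % 2)
      (List.mem_range.2 (Nat.mod_lt _ (by omega))) (cU c ^^^ u')
      (List.mem_range.2 (Nat.xor_lt_two_pow (n := 2) hcu hlt.1)) (cV c ^^^ v')
      (List.mem_range.2 (Nat.xor_lt_two_pow (n := 2) hcv hlt.2))
      ((cN c + (if cB c = 1 then 3 - cN d else cN d)) % 3)
      (List.mem_range.2 (Nat.mod_lt _ (by omega))) ((cB c + cB d) % 2)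
      (List.mem_range.2 (Nat.mod_lt _ (by omega)))
    have hmc : mulC sw e c d = enc ((cZ c + actZ (cB c) (cZ d) (cU d) (cV d) + sgnT (cU c) u' +
        sgnT (cV c) v' + (if e then cB c * cB d else 0)) % 2) (cU c ^^^ u') (cV c ^^^ v')
      ((cN c + (if cB c = 1 then 3 - cN d else cN d)) % 3) ((cB c + cB d) % 2) := rfl
    obtain ⟨-, o1, o2, o3, o4, o5⟩ := hco
    unfold coord
    rw [hmc, o1, o2, o3, o4, o5]
    have h1 := hact (cN c) hcn (cB c) hcb (cZ d) hdz (cU d) hdu (cV d) hdv
    have h2 := htail (cN c) hcn (cB c) hcb (cN d) hdn (cB d) hdb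
    rw [← hu', ← hv'] at h1
    set X := x ^ cN c * t ^ cB c
    set Y := x ^ cN d * t ^ cB d
    set Z' := x ^ ((cN c + (if cB c = 1 then 3 - cN d else cN d)) % 3) * t ^ ((cB c + cB d) % 2)
    have mU := h.unit_mem hi (cU c)
    have mV := h.unit_mem ha (cV c)
    have mU' := h.unit_mem hi u'
    have mV' := h.unit_mem ha v'
    calc s ^ cZ c * unit' x i (cU c) * unit' x a (cV c) * X *
          (s ^ cZ d * unit' x i (cU d) * unit' x a (cV d) * Y)
        = s ^ cZ c * (unit' x i (cU c) * unit' x a (cV c)) *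
            (s ^ actZ (cB c) (cZ d) (cU d) (cV d) * (unit' x i u' * unit' x a v')) * (X * Y) := by
          rw [← mul_assoc (s ^ cZ c * unit' x i (cU c) * unit' x a (cV c) * X),
            mul_assoc (s ^ cZ c * unit' x i (cU c) * unit' x a (cV c)) X, h1]
          simp only [mul_assoc]
      _ = s ^ cZ c * s ^ actZ (cB c) (cZ d) (cU d) (cV d) *
            ((unit' x i (cU c) * unit' x i u') * (unit' x a (cV c) * unit' x a v')) * (X * Y) := by
          rw [mul_assoc (s ^ cZ c), ← mul_assoc (unit' x i (cU c) * unit' x a (cV c)) (s ^ _),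
            ← hspow _ _ (Q.mul_mem mU mV)]
          simp only [mul_assoc]
          rw [← mul_assoc (unit' x a (cV c)) (unit' x i u'),
            ← (hc u' hlt.1 (cV c) hcv).eq]
          simp only [mul_assoc]
      _ = s ^ cZ c * s ^ actZ (cB c) (cZ d) (cU d) (cV d) * s ^ sgnT (cU c) u' *
            s ^ sgnT (cV c) v' * (unit' x i (cU c ^^^ u') * unit' x a (cV c ^^^ v')) *
            (X * Y) := by
          rw [T.unit_mul h.xs h.ss _ _ hcu hlt.1, A.unit_mul h.xs h.ss _ _ hcv hlt.2]
          simp only [mul_assoc]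
          rw [← mul_assoc (unit' x i (cU c ^^^ u')) (s ^ _), ← hspow _ _ (h.unit_mem hi _)]
          simp only [mul_assoc]
      _ = _ := by
          rw [h2, ← h.spow_eq, pow_add, pow_add, pow_add, pow_add]
          have := hspow (if e then cB c * cB d else 0) _
            (Q.mul_mem (h.unit_mem hi (cU c ^^^ u')) (h.unit_mem ha (cV c ^^^ v')))
          simp only [← mul_assoc] at this ⊢
          simp only [mul_assoc] at this ⊢
          rw [← mul_assoc (unit' x a (cV c ^^^ v')) (s ^ _),
            ← mul_assoc (unit' x i (cU c ^^^ u')) (unit' x a (cV c ^^^ v') * _), ← this]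
          simp only [mul_assoc]
  -- every element of `C(s)` has coordinates
  have hQe : ∀ q ∈ Q, ∃ c ∈ qL, coord s x t i a c = q := by
    intro q hq
    obtain ⟨z, hz, u, hu, v, hv, e'⟩ := h.pair_surj T A hi ha hc q hq
    have hco := coord_enc z (List.mem_range.2 hz) u (List.mem_range.2 hu) v (List.mem_range.2 hv)
      0 (List.mem_range.2 (by omega)) 0 (List.mem_range.2 (by omega))
    refine ⟨enc z u v 0 0, ?_, ?_⟩
    · refine List.mem_map.2 ⟨(z * 4 + u) * 4 + v, List.mem_range.2 (by omega), ?_⟩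
      unfold enc; ring
    · obtain ⟨-, o1, o2, o3, o4, o5⟩ := hco
      unfold coord
      rw [o1, o2, o3, o4, o5, pow_zero, pow_zero, mul_one, mul_one, e']
  have hsurj : ∀ g ∈ Subgroup.centralizer ({s} : Set G), ∃ c ∈ allL, coord s x t i a c = g := by
    intro g hg
    obtain ⟨n, hn, b, hb, hq⟩ := h.cover g hg
    obtain ⟨z, hz, u, hu, v, hv, e'⟩ := h.pair_surj T A hi ha hc _ hq
    have hco := coord_enc z (List.mem_range.2 hz) u (List.mem_range.2 hu) v (List.mem_range.2 hv)
      n (List.mem_range.2 hn) b (List.mem_range.2 hb)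
    obtain ⟨o0, o1, o2, o3, o4, o5⟩ := hco
    refine ⟨enc z u v n b, mem_allL.2 o0, ?_⟩
    unfold coord
    rw [o1, o2, o3, o4, o5, ← e', inv_mul_cancel_right]
  have hQle : Q ≤ Subgroup.centralizer ({s} : Set G) := fun q hq =>
    Subgroup.mem_centralizer_singleton_iff.2 (h.s_comm q hq).symm
  have hmem : ∀ c, coord s x t i a c ∈ Subgroup.centralizer ({s} : Set G) := fun c => by
    have hx' : x ∈ Subgroup.centralizer ({s} : Set G) :=
      Subgroup.mem_centralizer_singleton_iff.2 h.xs
    have ht' : t ∈ Subgroup.centralizer ({s} : Set G) :=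
      Subgroup.mem_centralizer_singleton_iff.2 h.ts
    exact mul_mem (mul_mem (mul_mem (pow_mem (hQle h.s_mem) _) (hQle (h.unit_mem hi _)))
      (hQle (h.unit_mem ha _))) (mul_mem (pow_mem hx' _) (pow_mem ht' _))
  have hinj : ∀ c ∈ allL, ∀ d ∈ allL, coord s x t i a c = coord s x t i a d → c = d := by
    let f : Fin 192 → Subgroup.centralizer ({s} : Set G) := fun c => ⟨_, hmem c⟩
    have hf : Function.Surjective f := fun g => by
      obtain ⟨c, hc', e'⟩ := hsurj g g.2
      exact ⟨⟨c, mem_allL.1 hc'⟩, Subtype.ext e'⟩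
    have hb := hf.bijective_of_nat_card_le (by rw [h.card_L]; simp)
    intro c hc' d hd' e'
    exact congrArg Fin.val (hb.1 (a₁ := ⟨c, mem_allL.1 hc'⟩) (a₂ := ⟨d, mem_allL.1 hd'⟩)
      (Subtype.ext e'))
  refine ⟨sw, e, coord s x t i a, hinj, fun c _ => hmem c, hsurj, hmul, ?_, ?_, hQle⟩
  · unfold coord
    simp [show cZ 96 = 1 from rfl, show cU 96 = 0 from rfl, show cV 96 = 0 from rfl,
      show cN 96 = 0 from rfl, show cB 96 = 0 from rfl, unit'_zero]
  · intro c hc'
    refine ⟨fun hcQ => ?_, fun hcq => ?_⟩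
    · obtain ⟨d, hd, e'⟩ := hQe _ hcQ
      have hd' : d ∈ allL := by
        obtain ⟨k, hk, rfl⟩ := List.mem_map.1 hd
        exact mem_allL.2 (by have := List.mem_range.1 hk; omega)
      rw [← hinj d hd' c hc' e']
      exact hd
    · obtain ⟨k, hk, rfl⟩ := List.mem_map.1 hcq
      have hk' := List.mem_range.1 hk
      unfold coord
      rw [show cN (6 * k) = 0 by unfold cN; omega, show cB (6 * k) = 0 by unfold cB; omega,
        pow_zero, pow_zero, mul_one, mul_one]
      exact Q.mul_mem (Q.mul_mem (h.spow_mem _) (h.unit_mem hi _)) (h.unit_mem ha _)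

end Raw

end H55.SThree
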