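import Cfsg.Agent.H55.SThree.ModelDef
import Mathlib.GroupTheory.Perm.Basic
import Mathlib.Algebra.Group.Conj
import Mathlib.Tactic.Group

/-!
Quaternion triples `i, j = x i x⁻¹, i j` permuted by an element `x`, and the product of their
unit words.
-/

set_option autoImplicit false

namespace H55.SThree

variable {G : Type*} [Group G]

/-- `i` and its conjugate under `x` generate a quaternion group with central involution `s`,
the three units being permuted cyclically by `x`. -/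
structure Triple (s x i : G) : Prop where
  sq : i * i = s
  si : s * i = i * s
  anti : (x * i * x⁻¹) * i = i * (x * i * x⁻¹) * s
  cyc : x * (x * i * x⁻¹) * x⁻¹ = i * (x * i * x⁻¹)

/-- The units `1, i, j, ij`. -/
def unit' (x i : G) (u : ℕ) : G :=
  if u = 0 then 1 else if u = 1 then i else if u = 2 then x * i * x⁻¹ else i * (x * i * x⁻¹)

variable {s x i : G}

theorem unit'_zero : unit' x i 0 = 1 := by simp [unit']

theorem unit'_one : unit' x i 1 = i := by simp [unit']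

theorem unit'_two : unit' x i 2 = x * i * x⁻¹ := by simp [unit']

theorem unit'_three : unit' x i 3 = i * (x * i * x⁻¹) := by simp [unit']

theorem conj_mul' (g a b : G) : g * (a * b) * g⁻¹ = (g * a * g⁻¹) * (g * b * g⁻¹) := by group

namespace Triple

theorem sq_j (h : Triple s x i) (hsx : x * s = s * x) :
    (x * i * x⁻¹) * (x * i * x⁻¹) = s := by
  rw [← conj_mul', h.sq, hsx]; group

theorem sj (h : Triple s x i) (hsx : x * s = s * x) :
    s * (x * i * x⁻¹) = (x * i * x⁻¹) * s := by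
  have h2 : x⁻¹ * s = s * x⁻¹ := by rw [inv_mul_eq_iff_eq_mul, ← mul_assoc, hsx]; group
  calc s * (x * i * x⁻¹) = x * (s * i) * x⁻¹ := by simp only [← mul_assoc, hsx]
    _ = (x * i) * (s * x⁻¹) := by rw [h.si]; simp only [mul_assoc]
    _ = (x * i * x⁻¹) * s := by rw [← h2]; simp only [mul_assoc]

/-- The multiplication table of the units. -/
theorem unit_mul (h : Triple s x i) (hsx : x * s = s * x) (hss : s * s = 1) (u v : ℕ)
    (hu : u < 4) (hv : v < 4) :
    unit' x i u * unit' x i v = s ^ sgnT u v * unit' x i (u ^^^ v) := by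
  have h1 := h.sq
  have h2 := h.sq_j hsx
  have h3 := h.anti
  have h4 := h.si
  have h5 := h.sj hsx
  generalize hj : x * i * x⁻¹ = j at h1 h2 h3 h4 h5
  have e1 : unit' x i 1 = i := unit'_one
  have e2 : unit' x i 2 = j := by rw [unit'_two, hj]
  have e3 : unit' x i 3 = i * j := by rw [unit'_three, hj]
  have e0 : unit' x i 0 = 1 := unit'_zero
  have a1 : j * i = s * (i * j) := by
    rw [h3, mul_assoc i j s, ← h5, ← mul_assoc, ← h4, mul_assoc]
  have s12 : sgnT 1 2 = 0 ∧ sgnT 1 1 = 1 ∧ sgnT 1 3 = 1 ∧ sgnT 2 1 = 1 ∧ sgnT 2 2 = 1 ∧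
      sgnT 2 3 = 0 ∧ sgnT 3 1 = 0 ∧ sgnT 3 2 = 1 ∧ sgnT 3 3 = 1 ∧
      (∀ w < 4, sgnT 0 w = 0 ∧ sgnT w 0 = 0) := by decide
  obtain ⟨t12, t11, t13, t21, t22, t23, t31, t32, t33, t0⟩ := s12
  rcases Nat.lt_succ_iff.1 hu |>.eq_or_lt with rfl | hu
  · rcases Nat.lt_succ_iff.1 hv |>.eq_or_lt with rfl | hv
    · -- `(ij)(ij) = s`
      rw [e3, t33, Nat.xor_self, e0, pow_one, mul_one]
      calc i * j * (i * j) = i * (j * i) * j := by simp only [mul_assoc]
        _ = i * s * (i * (j * j)) := by rw [a1]; simp only [mul_assoc]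
        _ = s * (i * i) * s := by rw [← h4, h2]; simp only [mul_assoc]
        _ = s := by rw [h1, hss, one_mul]
    rcases Nat.lt_succ_iff.1 hv |>.eq_or_lt with rfl | hv
    · rw [show (3 : ℕ) ^^^ 2 = 1 from rfl, e3, e2, e1, t32, pow_one, mul_assoc, h2, h4]
    rcases Nat.lt_succ_iff.1 hv |>.eq_or_lt with rfl | hv
    · rw [show (3 : ℕ) ^^^ 1 = 2 from rfl, e3, e1, e2, t31, pow_zero, one_mul, mul_assoc, a1,
        ← mul_assoc, ← h4, mul_assoc, ← mul_assoc i i, h1, ← mul_assoc, hss, one_mul]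
    · obtain rfl : v = 0 := by omega
      rw [show (3 : ℕ) ^^^ 0 = 3 from rfl, e0, (t0 3 (by omega)).2, pow_zero, one_mul, mul_one]
  rcases Nat.lt_succ_iff.1 hu |>.eq_or_lt with rfl | hu
  · rcases Nat.lt_succ_iff.1 hv |>.eq_or_lt with rfl | hv
    · rw [show (2 : ℕ) ^^^ 3 = 1 from rfl, e2, e3, e1, t23, pow_zero, one_mul, ← mul_assoc, a1,
        mul_assoc, mul_assoc, h2, ← h4, ← mul_assoc, hss, one_mul]
    rcases Nat.lt_succ_iff.1 hv |>.eq_or_lt with rfl | hv
    · rw [Nat.xor_self, e2, e0, t22, pow_one, mul_one, h2]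
    rcases Nat.lt_succ_iff.1 hv |>.eq_or_lt with rfl | hv
    · rw [show (2 : ℕ) ^^^ 1 = 3 from rfl, e2, e1, e3, t21, pow_one, a1]
    · obtain rfl : v = 0 := by omega
      rw [show (2 : ℕ) ^^^ 0 = 2 from rfl, e0, (t0 2 (by omega)).2, pow_zero, one_mul, mul_one]
  rcases Nat.lt_succ_iff.1 hu |>.eq_or_lt with rfl | hu
  · rcases Nat.lt_succ_iff.1 hv |>.eq_or_lt with rfl | hv
    · rw [show (1 : ℕ) ^^^ 3 = 2 from rfl, e1, e3, e2, t13, pow_one, ← mul_assoc, h1]
    rcases Nat.lt_succ_iff.1 hv |>.eq_or_lt with rfl | hv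
    · rw [show (1 : ℕ) ^^^ 2 = 3 from rfl, e1, e2, e3, t12, pow_zero, one_mul]
    rcases Nat.lt_succ_iff.1 hv |>.eq_or_lt with rfl | hv
    · rw [Nat.xor_self, e1, e0, t11, pow_one, mul_one, h1]
    · obtain rfl : v = 0 := by omega
      rw [show (1 : ℕ) ^^^ 0 = 1 from rfl, e0, (t0 1 (by omega)).2, pow_zero, one_mul, mul_one]
  · obtain rfl : u = 0 := by omega
    rw [Nat.zero_xor, e0, (t0 v (by omega)).1, pow_zero]

/-- `x` permutes the units. -/
theorem x_unit (h : Triple s x i) (hx : x * x * x = 1) (u : ℕ) (hu : u < 4) :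
    x * unit' x i u * x⁻¹ = unit' x i (rot u) := by
  rcases Nat.lt_succ_iff.1 hu |>.eq_or_lt with rfl | hu
  · rw [show rot 3 = 1 from rfl, unit'_three, unit'_one, ← h.cyc,
      show x * (x * (x * i * x⁻¹) * x⁻¹) * x⁻¹ = (x * x * x) * i * (x * x * x)⁻¹ by group, hx,
      one_mul, inv_one, mul_one]
  rcases Nat.lt_succ_iff.1 hu |>.eq_or_lt with rfl | hu
  · rw [show rot 2 = 3 from rfl, unit'_two, unit'_three, h.cyc]
  rcases Nat.lt_succ_iff.1 hu |>.eq_or_lt with rfl | hu
  · rw [show rot 1 = 2 from rfl, unit'_one, unit'_two]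
  · obtain rfl : u = 0 := by omega
    rw [show rot 0 = 0 from rfl, unit'_zero, mul_one, mul_inv_cancel]

end Triple

end H55.SThree
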